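import Mathlib

set_option autoImplicit false

/-!
Automorphisms of `PSL(ι, F)`: basic constructions (conjugation by `GL`, field automorphisms,
inverse transpose).
-/

namespace Cfsg.Agent.Lib.Helper18.AutPSL

open Matrix MatrixGroups

variable {ι : Type*} [Fintype ι] [DecidableEq ι] {F : Type*} [Field F]

/-- the projection `SL → PSL` -/
abbrev pm (x : SpecialLinearGroup ι F) : ProjectiveSpecialLinearGroup ι F :=
  QuotientGroup.mk x

theorem pm_mul (x y : SpecialLinearGroup ι F) : pm (x * y) = pm x * pm y := rfl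
theorem pm_inv (x : SpecialLinearGroup ι F) : pm x⁻¹ = (pm x)⁻¹ := rfl
theorem pm_one : pm (1 : SpecialLinearGroup ι F) = 1 := rfl

theorem pm_surjective : Function.Surjective (pm : SpecialLinearGroup ι F → _) :=
  QuotientGroup.mk_surjective

theorem exists_eps_of_pm_eq {x y : SpecialLinearGroup ι F} (h : pm x = pm y) :
    ∃ ε : F, y.1 = ε • x.1 := by
  rw [QuotientGroup.eq, Matrix.SpecialLinearGroup.mem_center_iff] at h
  obtain ⟨r, hr, hs⟩ := h
  refine ⟨r, ?_⟩
  have hy : y = x * (x⁻¹ * y) := by group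
  have hy' : y.1 = x.1 * (x⁻¹ * y).1 := by
    conv_lhs => rw [hy]
    rfl
  rw [hy', ← hs]
  ext i j
  simp [mul_comm]

theorem pm_eq_of_smul {x y : SpecialLinearGroup ι F} {ε : F} (h : y.1 = ε • x.1) :
    pm x = pm y := by
  rw [QuotientGroup.eq, Matrix.SpecialLinearGroup.mem_center_iff]
  refine ⟨ε, ?_, ?_⟩
  · have h1 := congrArg Matrix.det h
    rw [y.2, Matrix.det_smul, x.2, mul_one] at h1
    exact h1.symm
  · have h2 : (x⁻¹ * y).1 = x⁻¹.1 * y.1 := rfl
    have h3 : x⁻¹.1 * x.1 = 1 := by
      have : (x⁻¹ * x).1 = x⁻¹.1 * x.1 := rfl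
      rw [← this, inv_mul_cancel]; rfl
    rw [h2, h, Matrix.mul_smul, h3]
    ext i j
    simp [Matrix.one_apply, Matrix.diagonal_apply]

/-! ### automorphisms of the quotient -/

/-- an automorphism of `SL` induces one of `PSL` -/
noncomputable def autQ (e : SpecialLinearGroup ι F ≃* SpecialLinearGroup ι F) :
    ProjectiveSpecialLinearGroup ι F ≃* ProjectiveSpecialLinearGroup ι F :=
  QuotientGroup.congr _ _ e (Subgroup.characteristic_iff_map_eq.1 inferInstance e)

@[simp] theorem autQ_pm (e : SpecialLinearGroup ι F ≃* SpecialLinearGroup ι F)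
    (x : SpecialLinearGroup ι F) : autQ e (pm x) = pm (e x) := rfl

noncomputable def autQHom : MulAut (SpecialLinearGroup ι F) →*
    MulAut (ProjectiveSpecialLinearGroup ι F) where
  toFun := autQ
  map_one' := by
    ext x
    obtain ⟨x, rfl⟩ := pm_surjective x
    rfl
  map_mul' a b := by
    ext x
    obtain ⟨x, rfl⟩ := pm_surjective x
    rfl

/-- conjugation by an element of `GL` on `SL` -/
def conjS (g : GL ι F) : SpecialLinearGroup ι F ≃* SpecialLinearGroup ι F where
  toFun x := ⟨g.1 * x.1 * g⁻¹.1, by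
    rw [det_mul, det_mul, x.2, mul_one, ← det_mul, Units.mul_inv, det_one]⟩
  invFun x := ⟨g⁻¹.1 * x.1 * g.1, by
    rw [det_mul, det_mul, x.2, mul_one, ← det_mul, Units.inv_mul, det_one]⟩
  left_inv x := by
    apply Subtype.ext
    show g⁻¹.1 * (g.1 * x.1 * g⁻¹.1) * g.1 = x.1
    rw [Matrix.mul_assoc, Matrix.mul_assoc, Units.inv_mul, Matrix.mul_one, ← Matrix.mul_assoc,
      Units.inv_mul, Matrix.one_mul]
  right_inv x := by
    apply Subtype.ext
    show g.1 * (g⁻¹.1 * x.1 * g.1) * g⁻¹.1 = x.1
    rw [Matrix.mul_assoc, Matrix.mul_assoc, Units.mul_inv, Matrix.mul_one, ← Matrix.mul_assoc,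
      Units.mul_inv, Matrix.one_mul]
  map_mul' x y := by
    apply Subtype.ext
    show g.1 * (x.1 * y.1) * g⁻¹.1 = (g.1 * x.1 * g⁻¹.1) * (g.1 * y.1 * g⁻¹.1)
    have : g⁻¹.1 * (g.1 * y.1 * g⁻¹.1) = y.1 * g⁻¹.1 := by
      rw [← Matrix.mul_assoc, ← Matrix.mul_assoc, Units.inv_mul, Matrix.one_mul]
    rw [Matrix.mul_assoc (g.1 * x.1), this]
    simp only [Matrix.mul_assoc]

theorem conjS_val (g : GL ι F) (x : SpecialLinearGroup ι F) :
    (conjS g x).1 = g.1 * x.1 * g⁻¹.1 := rfl

/-- the defining relation of `conjS` without inverses -/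
theorem conjS_mul (g : GL ι F) (x : SpecialLinearGroup ι F) :
    (conjS g x).1 * g.1 = g.1 * x.1 := by
  rw [conjS_val, Matrix.mul_assoc, Units.inv_mul, Matrix.mul_one]

theorem conjS_eq_of_mul {g : GL ι F} {x y : SpecialLinearGroup ι F}
    (h : y.1 * g.1 = g.1 * x.1) : conjS g x = y := by
  apply Subtype.ext
  rw [conjS_val, ← h, Matrix.mul_assoc, Units.mul_inv, Matrix.mul_one]

def conjSHom : GL ι F →* MulAut (SpecialLinearGroup ι F) where
  toFun := conjS
  map_one' := by
    ext x : 1
    apply conjS_eq_of_mul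
    simp
  map_mul' a b := by
    ext x : 1
    apply conjS_eq_of_mul
    show (conjS a (conjS b x)).1 * (a.1 * b.1) = (a.1 * b.1) * x.1
    rw [← Matrix.mul_assoc, conjS_mul, Matrix.mul_assoc, conjS_mul, Matrix.mul_assoc]

/-- conjugation by `GL` on `PSL` -/
noncomputable def cG : GL ι F →* MulAut (ProjectiveSpecialLinearGroup ι F) :=
  autQHom.comp conjSHom

theorem cG_pm (g : GL ι F) (x : SpecialLinearGroup ι F) :
    cG g (pm x) = pm (conjS g x) := rfl

theorem conjS_toGL (y x : SpecialLinearGroup ι F) :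
    conjS (SpecialLinearGroup.toGL y) x = y * x * y⁻¹ := by
  apply conjS_eq_of_mul
  show (y * x * y⁻¹ * y).1 = (y * x).1
  simp

theorem cG_toGL (y : SpecialLinearGroup ι F) :
    cG (SpecialLinearGroup.toGL y) = MulAut.conj (pm y) := by
  ext x
  obtain ⟨x, rfl⟩ := pm_surjective x
  rw [cG_pm, conjS_toGL]
  rfl

/-! ### field automorphisms -/

/-- a ring automorphism acting on `SL` -/
def fldS (σ : F ≃+* F) : SpecialLinearGroup ι F ≃* SpecialLinearGroup ι F where
  toFun := SpecialLinearGroup.map (σ : F →+* F)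
  invFun := SpecialLinearGroup.map (σ.symm : F →+* F)
  left_inv A := by
    ext i j
    simp [SpecialLinearGroup.map_apply_coe]
  right_inv A := by
    ext i j
    simp [SpecialLinearGroup.map_apply_coe]
  map_mul' A B := map_mul _ A B

theorem fldS_apply (σ : F ≃+* F) (x : SpecialLinearGroup ι F) (i j : ι) :
    (fldS σ x).1 i j = σ (x.1 i j) := rfl

theorem fldS_val (σ : F ≃+* F) (x : SpecialLinearGroup ι F) :
    (fldS σ x).1 = x.1.map σ := rfl

/-! ### inverse transpose -/

theorem transpose_mul' (x y : SpecialLinearGroup ι F) :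
    (x * y).transpose = y.transpose * x.transpose := by
  apply Subtype.ext
  show (x.1 * y.1)ᵀ = y.1ᵀ * x.1ᵀ
  rw [Matrix.transpose_mul]

theorem transpose_one' : (1 : SpecialLinearGroup ι F).transpose = 1 := by
  apply Subtype.ext
  show (1 : Matrix ι ι F)ᵀ = 1
  rw [Matrix.transpose_one]

theorem transpose_transpose' (x : SpecialLinearGroup ι F) : x.transpose.transpose = x := by
  apply Subtype.ext
  show (x.1ᵀ)ᵀ = x.1
  rw [Matrix.transpose_transpose]

theorem transpose_inv' (x : SpecialLinearGroup ι F) : (x⁻¹).transpose = (x.transpose)⁻¹ := by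
  apply eq_inv_of_mul_eq_one_left
  rw [← transpose_mul', mul_inv_cancel, transpose_one']

/-- the inverse transpose automorphism of `SL` -/
def invT : SpecialLinearGroup ι F ≃* SpecialLinearGroup ι F where
  toFun x := (x⁻¹).transpose
  invFun x := (x⁻¹).transpose
  left_inv x := by
    show (((x⁻¹).transpose)⁻¹).transpose = x
    rw [transpose_inv', transpose_inv', transpose_inv', inv_inv, transpose_transpose']
  right_inv x := by
    show (((x⁻¹).transpose)⁻¹).transpose = x
    rw [transpose_inv', transpose_inv', transpose_inv', inv_inv, transpose_transpose']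
  map_mul' x y := by
    show ((x * y)⁻¹).transpose = (x⁻¹).transpose * (y⁻¹).transpose
    rw [_root_.mul_inv_rev, transpose_mul']

theorem invT_apply (x : SpecialLinearGroup ι F) : invT x = (x⁻¹).transpose := rfl

theorem invT_invT (x : SpecialLinearGroup ι F) : invT (invT x) = x := invT.left_inv x

/-- characterisation of the inverse transpose -/
theorem invT_eq_of_mul {x y : SpecialLinearGroup ι F} (h : y.1ᵀ * x.1 = 1) : invT x = y := by
  rw [invT_apply, transpose_inv']
  apply inv_eq_of_mul_eq_one_left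
  apply Subtype.ext
  show y.1 * x.1ᵀ = 1
  have := congrArg Matrix.transpose h
  rw [Matrix.transpose_mul, Matrix.transpose_transpose, Matrix.transpose_one] at this
  exact mul_eq_one_comm.1 this

/-- the graph automorphism of `PSL` -/
noncomputable def gr : MulAut (ProjectiveSpecialLinearGroup ι F) := autQ invT

theorem gr_pm (x : SpecialLinearGroup ι F) : gr (pm x) = pm (invT x) := rfl

theorem gr_mul_gr : (gr : MulAut (ProjectiveSpecialLinearGroup ι F)) * gr = 1 := by
  ext x
  obtain ⟨x, rfl⟩ := pm_surjective x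
  rw [MulAut.mul_apply, gr_pm, gr_pm, invT_invT]
  rfl

end Cfsg.Agent.Lib.Helper18.AutPSL
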