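import Mathlib
import Cfsg.Agent.Lib.Helper18.AutPSL.Basic

set_option autoImplicit false

/-!
Transvections `1 + a φᵀ` in `SL(ι, F)`.
-/

namespace Cfsg.Agent.Lib.Helper18.AutPSL

open Matrix MatrixGroups

variable {ι : Type*} [Fintype ι] [DecidableEq ι] {F : Type*} [Field F]

/-! ### linear algebra with dot products -/

/-- two linear forms in dimension at least three have a common nonzero zero -/
theorem exists_common_zero (h3 : 3 ≤ Fintype.card ι) (φ ψ : ι → F) :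
    ∃ v : ι → F, v ≠ 0 ∧ φ ⬝ᵥ v = 0 ∧ ψ ⬝ᵥ v = 0 := by
  let f : (ι → F) →ₗ[F] (Fin 2 → F) := Matrix.mulVecLin (Matrix.of ![φ, ψ] : Matrix (Fin 2) ι F)
  have hker : LinearMap.ker f ≠ ⊥ := by
    apply LinearMap.ker_ne_bot_of_finrank_lt
    simp only [Module.finrank_fintype_fun_eq_card, Fintype.card_fin]
    omega
  obtain ⟨v, hv, hv0⟩ := (Submodule.ne_bot_iff _).1 hker
  refine ⟨v, hv0, ?_, ?_⟩
  · have := congrFun (LinearMap.mem_ker.1 hv) 0
    simpa [f, Matrix.mulVec] using this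
  · have := congrFun (LinearMap.mem_ker.1 hv) 1
    simpa [f, Matrix.mulVec] using this

theorem exists_ne_zero_entry {v : ι → F} (hv : v ≠ 0) : ∃ i, v i ≠ 0 := by
  by_contra h
  push Not at h
  exact hv (funext h)

theorem dotProduct_single_one (φ : ι → F) (i : ι) : φ ⬝ᵥ Pi.single i 1 = φ i := by
  simp

theorem single_one_dotProduct (φ : ι → F) (i : ι) : Pi.single i 1 ⬝ᵥ φ = φ i := by
  simp

/-- a linear form vanishing on the kernel of another is a multiple of it -/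
theorem exists_smul_of_ker_le {φ ψ : ι → F} (h : ∀ v, ψ ⬝ᵥ v = 0 → φ ⬝ᵥ v = 0) :
    ∃ c : F, φ = c • ψ := by
  by_cases hψ : ψ = 0
  · refine ⟨0, ?_⟩
    funext i
    have := h (Pi.single i 1) (by rw [hψ]; simp)
    rw [dotProduct_single_one] at this
    simp [this]
  obtain ⟨j, hj⟩ := exists_ne_zero_entry hψ
  refine ⟨φ j / ψ j, ?_⟩
  funext i
  have := h (Pi.single i 1 - (ψ i / ψ j) • Pi.single j 1) (by
    rw [dotProduct_sub, dotProduct_smul, dotProduct_single_one, dotProduct_single_one, smul_eq_mul]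
    field_simp
    ring)
  rw [dotProduct_sub, dotProduct_smul, dotProduct_single_one, dotProduct_single_one,
    smul_eq_mul] at this
  simp only [Pi.smul_apply, smul_eq_mul]
  field_simp
  field_simp at this
  linear_combination this

/-- equality of rank one matrices -/
theorem vecMulVec_eq_vecMulVec {a b φ ψ : ι → F} (ha : a ≠ 0) (hφ : φ ≠ 0)
    (h : vecMulVec a φ = vecMulVec b ψ) : ∃ c : F, c ≠ 0 ∧ b = c • a ∧ φ = c • ψ := by
  obtain ⟨i, hi⟩ := exists_ne_zero_entry ha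
  obtain ⟨j, hj⟩ := exists_ne_zero_entry hφ
  have hij : ∀ k l, a k * φ l = b k * ψ l := fun k l => congrFun (congrFun h k) l
  have h1 := hij i j
  have hb : b i ≠ 0 := by
    intro h0
    rw [h0, zero_mul] at h1
    exact mul_ne_zero hi hj h1
  refine ⟨b i / a i, div_ne_zero hb hi, ?_, ?_⟩
  · funext k
    simp only [Pi.smul_apply, smul_eq_mul]
    have h2 := hij k j
    have hψ : ψ j ≠ 0 := by
      intro h0
      rw [h0, mul_zero] at h1
      exact mul_ne_zero hi hj h1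
    field_simp
    apply mul_right_cancel₀ hψ
    linear_combination (-(a i)) * h2 + (a k) * h1
  · funext l
    simp only [Pi.smul_apply, smul_eq_mul]
    have h2 := hij i l
    field_simp
    linear_combination h2

/-! ### transvections -/

/-- the transvection `1 + a φᵀ` -/
def tv (a φ : ι → F) (h : φ ⬝ᵥ a = 0) : SpecialLinearGroup ι F :=
  ⟨1 + vecMulVec a φ, by
    rw [vecMulVec_eq Unit, det_one_add_replicateCol_mul_replicateRow, h, add_zero]⟩

theorem tv_val (a φ : ι → F) (h : φ ⬝ᵥ a = 0) : (tv a φ h).1 = 1 + vecMulVec a φ := rfl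

theorem tv_congr {a a' φ φ' : ι → F} {h : φ ⬝ᵥ a = 0} {h' : φ' ⬝ᵥ a' = 0} (ha : a = a')
    (hφ : φ = φ') : tv a φ h = tv a' φ' h' := by
  subst ha; subst hφ; rfl

theorem tv_eq_one_iff {a φ : ι → F} (h : φ ⬝ᵥ a = 0) : tv a φ h = 1 ↔ a = 0 ∨ φ = 0 := by
  constructor
  · intro h1
    have h2 : (tv a φ h).1 = 1 := congrArg Subtype.val h1
    rw [tv_val, add_eq_left, vecMulVec_eq_zero] at h2
    exact h2
  · rintro (rfl | rfl)
    · apply Subtype.ext
      rw [tv_val]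
      ext i j
      simp
    · apply Subtype.ext
      rw [tv_val]
      ext i j
      simp

theorem vecMulVec_mulVec' (a φ v : ι → F) : vecMulVec a φ *ᵥ v = (φ ⬝ᵥ v) • a := by
  rw [vecMulVec_mulVec]
  ext i
  simp [mul_comm]

theorem tv_mulVec (a φ : ι → F) (h : φ ⬝ᵥ a = 0) (v : ι → F) :
    (tv a φ h).1 *ᵥ v = v + (φ ⬝ᵥ v) • a := by
  rw [tv_val, Matrix.add_mulVec, Matrix.one_mulVec, vecMulVec_mulVec']

theorem tv_mul_tv (a φ b ψ : ι → F) (h : φ ⬝ᵥ a = 0) (h' : ψ ⬝ᵥ b = 0) :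
    (tv a φ h * tv b ψ h').1 =
      1 + vecMulVec a φ + vecMulVec b ψ + (φ ⬝ᵥ b) • vecMulVec a ψ := by
  show (1 + vecMulVec a φ) * (1 + vecMulVec b ψ) = _
  rw [Matrix.add_mul, Matrix.mul_add, Matrix.mul_add, Matrix.one_mul, Matrix.one_mul,
    Matrix.mul_one, vecMulVec_mul_vecMulVec]
  ext i j
  simp only [Matrix.add_apply, vecMulVec_apply, Pi.smul_apply, smul_eq_mul, Matrix.smul_apply]
  ring

theorem tv_mul_same_center {a φ ψ : ι → F} (h : φ ⬝ᵥ a = 0) (h' : ψ ⬝ᵥ a = 0)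
    (h'' : (φ + ψ) ⬝ᵥ a = 0) : tv a φ h * tv a ψ h' = tv a (φ + ψ) h'' := by
  apply Subtype.ext
  rw [tv_mul_tv, h, tv_val]
  ext i j
  simp only [Matrix.add_apply, vecMulVec_apply, Pi.add_apply, Matrix.smul_apply, smul_eq_mul]
  ring

theorem tv_mul_same_axis {a b φ : ι → F} (h : φ ⬝ᵥ a = 0) (h' : φ ⬝ᵥ b = 0)
    (h'' : φ ⬝ᵥ (a + b) = 0) : tv a φ h * tv b φ h' = tv (a + b) φ h'' := by
  apply Subtype.ext
  rw [tv_mul_tv, h', tv_val]
  ext i j
  simp only [Matrix.add_apply, vecMulVec_apply, Pi.add_apply, Matrix.smul_apply, smul_eq_mul]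
  ring

theorem tv_inv {a φ : ι → F} (h : φ ⬝ᵥ a = 0) (h' : (-φ) ⬝ᵥ a = 0) :
    (tv a φ h)⁻¹ = tv a (-φ) h' := by
  apply inv_eq_of_mul_eq_one_right
  rw [tv_mul_same_center h h' (by simp)]
  exact (tv_eq_one_iff _).2 (Or.inr (add_neg_cancel φ))

theorem tv_smul {a φ : ι → F} (c : F) (h : φ ⬝ᵥ (c • a) = 0) (h' : (c • φ) ⬝ᵥ a = 0) :
    tv (c • a) φ h = tv a (c • φ) h' := by
  apply Subtype.ext
  rw [tv_val, tv_val]
  ext i j
  simp only [Matrix.add_apply, vecMulVec_apply, Pi.smul_apply, smul_eq_mul]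
  ring

theorem conjS_tv (g : GL ι F) {a φ : ι → F} (h : φ ⬝ᵥ a = 0)
    (h' : (φ ᵥ* g⁻¹.1) ⬝ᵥ (g.1 *ᵥ a) = 0) :
    conjS g (tv a φ h) = tv (g.1 *ᵥ a) (φ ᵥ* g⁻¹.1) h' := by
  apply Subtype.ext
  rw [conjS_val, tv_val, tv_val, Matrix.mul_add, Matrix.add_mul, Matrix.mul_one, Units.mul_inv,
    mul_vecMulVec, vecMulVec_mul]

theorem conj_dot (g : GL ι F) {a φ : ι → F} (h : φ ⬝ᵥ a = 0) :
    (φ ᵥ* g⁻¹.1) ⬝ᵥ (g.1 *ᵥ a) = 0 := by
  rw [Matrix.dotProduct_mulVec, Matrix.vecMul_vecMul, Units.inv_mul, Matrix.vecMul_one, h]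

theorem fld_dot (σ : F ≃+* F) {a φ : ι → F} (h : φ ⬝ᵥ a = 0) :
    (σ ∘ φ) ⬝ᵥ (σ ∘ a) = 0 := by
  have := congrArg σ h
  rw [map_zero] at this
  rw [← this]
  simp [dotProduct, map_sum]

theorem fldS_tv (σ : F ≃+* F) {a φ : ι → F} (h : φ ⬝ᵥ a = 0) :
    fldS σ (tv a φ h) = tv (σ ∘ a) (σ ∘ φ) (fld_dot σ h) := by
  apply Subtype.ext
  ext i j
  rw [fldS_apply, tv_val, tv_val]
  by_cases hij : i = j
  · subst hij; simp [vecMulVec_apply]
  · simp [vecMulVec_apply, hij]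

theorem invT_tv {a φ : ι → F} (h : φ ⬝ᵥ a = 0) (h' : (-a) ⬝ᵥ φ = 0) :
    invT (tv a φ h) = tv φ (-a) h' := by
  apply invT_eq_of_mul
  rw [tv_val, tv_val, Matrix.transpose_add, Matrix.transpose_one]
  have e : (vecMulVec φ (-a))ᵀ = vecMulVec (-a) φ := by
    ext i j
    simp [vecMulVec_apply, mul_comm]
  rw [e, Matrix.add_mul, Matrix.mul_add, Matrix.mul_add, Matrix.one_mul, Matrix.one_mul,
    Matrix.mul_one, vecMulVec_mul_vecMulVec, h]
  ext i j
  simp [vecMulVec_apply]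

theorem tv_pow {a φ : ι → F} (h : φ ⬝ᵥ a = 0) (k : ℕ) (h' : ((k : F) • φ) ⬝ᵥ a = 0) :
    (tv a φ h) ^ k = tv a ((k : F) • φ) h' := by
  induction k with
  | zero =>
    rw [pow_zero]
    exact ((tv_eq_one_iff _).2 (Or.inr (by simp))).symm
  | succ k ih =>
    rw [pow_succ, ih (by rw [smul_dotProduct, h, smul_zero]),
      tv_mul_same_center _ h (by rw [add_dotProduct, smul_dotProduct, h]; simp)]
    apply tv_congr rfl
    push_cast
    rw [add_smul, one_smul]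

theorem tv_pow_char (p : ℕ) [CharP F p] {a φ : ι → F} (h : φ ⬝ᵥ a = 0) : (tv a φ h) ^ p = 1 := by
  rw [tv_pow h p (by rw [smul_dotProduct, h, smul_zero])]
  exact (tv_eq_one_iff _).2 (Or.inr (by rw [CharP.cast_eq_zero, zero_smul]))

end Cfsg.Agent.Lib.Helper18.AutPSL
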