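import Mathlib
import Cfsg.Agent.Lib.Helper18.AutPSL.Tv

set_option autoImplicit false

/-!
Subgroups of `PSL(ι, F)` consisting of transvections.
-/

namespace Cfsg.Agent.Lib.Helper18.AutPSL

open Matrix MatrixGroups

variable {ι : Type*} [Fintype ι] [DecidableEq ι] {F : Type*} [Field F]

/-- a scalar multiple of a matrix with a fixed vector which is a transvection -/
theorem eq_of_smul_of_fixed {x : SpecialLinearGroup ι F} {c χ : ι → F} {h : χ ⬝ᵥ c = 0} {ε : F}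
    (he : (tv c χ h).1 = ε • x.1) {v : ι → F} (hv : v ≠ 0) (hx : x.1 *ᵥ v = v) :
    x = tv c χ h := by
  have h1 : v + (χ ⬝ᵥ v) • c = ε • v := by
    rw [← tv_mulVec c χ h, he, Matrix.smul_mulVec, hx]
  have h2 : χ ⬝ᵥ v = ε * (χ ⬝ᵥ v) := by
    have := congrArg (fun w => χ ⬝ᵥ w) h1
    simp only [dotProduct_add, dotProduct_smul, h, smul_eq_mul, mul_zero, add_zero] at this
    exact this
  have h3 : ε = 1 := by
    by_cases h0 : χ ⬝ᵥ v = 0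
    · rw [h0, zero_smul, add_zero] at h1
      obtain ⟨i, hi⟩ := exists_ne_zero_entry hv
      have := congrFun h1 i
      simp only [Pi.smul_apply, smul_eq_mul] at this
      apply mul_right_cancel₀ hi
      rw [one_mul]; exact this.symm
    · apply mul_right_cancel₀ h0
      rw [one_mul]; exact h2.symm
  rw [h3, one_smul] at he
  exact (Subtype.ext he).symm

theorem tv_eq_of_pm_eq (h3 : 3 ≤ Fintype.card ι) {a φ b ψ : ι → F} {h : φ ⬝ᵥ a = 0}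
    {h' : ψ ⬝ᵥ b = 0} (e : pm (tv a φ h) = pm (tv b ψ h')) : tv a φ h = tv b ψ h' := by
  obtain ⟨ε, hε⟩ := exists_eps_of_pm_eq e
  obtain ⟨v, hv, hv1, -⟩ := exists_common_zero h3 φ φ
  exact eq_of_smul_of_fixed hε hv (by rw [tv_mulVec, hv1, zero_smul, add_zero])

theorem mul_eq_of_pm_eq (h3 : 3 ≤ Fintype.card ι) {a φ b ψ c χ : ι → F} {h : φ ⬝ᵥ a = 0}
    {h' : ψ ⬝ᵥ b = 0} {h'' : χ ⬝ᵥ c = 0} (e : pm (tv a φ h * tv b ψ h') = pm (tv c χ h'')) :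
    tv a φ h * tv b ψ h' = tv c χ h'' := by
  obtain ⟨ε, hε⟩ := exists_eps_of_pm_eq e
  obtain ⟨v, hv, hv1, hv2⟩ := exists_common_zero h3 φ ψ
  apply eq_of_smul_of_fixed hε hv
  show ((tv a φ h).1 * (tv b ψ h').1) *ᵥ v = v
  rw [← Matrix.mulVec_mulVec, tv_mulVec b ψ h', hv2, zero_smul, add_zero, tv_mulVec, hv1,
    zero_smul, add_zero]

theorem vec_eq_of_tv_eq {a φ b ψ : ι → F} {h : φ ⬝ᵥ a = 0} {h' : ψ ⬝ᵥ b = 0}
    (e : tv a φ h = tv b ψ h') : vecMulVec a φ = vecMulVec b ψ := by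
  have := congrArg Subtype.val e
  rw [tv_val, tv_val] at this
  exact add_left_cancel this

theorem exists_sep {φ ψ : ι → F} (hφ : φ ≠ 0) (h : ∀ k : F, ψ ≠ k • φ) :
    ∃ v, ψ ⬝ᵥ v = 0 ∧ φ ⬝ᵥ v ≠ 0 := by
  by_contra hc
  push Not at hc
  obtain ⟨k, hk⟩ := exists_smul_of_ker_le hc
  have hk0 : k ≠ 0 := by
    rintro rfl
    exact hφ (by rw [hk, zero_smul])
  exact h k⁻¹ (by rw [hk, smul_smul, inv_mul_cancel₀ hk0, one_smul])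

/-- if a product of two transvections is a transvection they share the centre or the axis -/
theorem parallel_of_mul {a φ b ψ c χ : ι → F} {h : φ ⬝ᵥ a = 0} {h' : ψ ⬝ᵥ b = 0}
    {h'' : χ ⬝ᵥ c = 0} (ha : a ≠ 0) (hφ : φ ≠ 0) (hψ : ψ ≠ 0)
    (e : tv a φ h * tv b ψ h' = tv c χ h'') : (∃ k : F, b = k • a) ∨ (∃ k : F, ψ = k • φ) := by
  by_contra hc
  push Not at hc
  obtain ⟨hc1, hc2⟩ := hc
  have hM : ∀ v : ι → F, (φ ⬝ᵥ v) • a + (ψ ⬝ᵥ v) • b + ((φ ⬝ᵥ b) * (ψ ⬝ᵥ v)) • a = (χ ⬝ᵥ v) • c := by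
    intro v
    have e1 := congrArg (fun x : SpecialLinearGroup ι F => x.1 *ᵥ v) e
    simp only [tv_mul_tv, tv_val, Matrix.add_mulVec, Matrix.one_mulVec, vecMulVec_mulVec',
      Matrix.smul_mulVec, smul_smul] at e1
    have e2 : v + ((φ ⬝ᵥ v) • a + (ψ ⬝ᵥ v) • b + ((φ ⬝ᵥ b) * (ψ ⬝ᵥ v)) • a) = v + (χ ⬝ᵥ v) • c := by
      rw [← e1]; abel
    exact add_left_cancel e2
  obtain ⟨v, hv1, hv2⟩ := exists_sep hφ hc2
  have hc2' : ∀ k : F, φ ≠ k • ψ := by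
    intro k hk
    have hk0 : k ≠ 0 := by
      rintro rfl
      exact hφ (by rw [hk, zero_smul])
    exact hc2 k⁻¹ (by rw [hk, smul_smul, inv_mul_cancel₀ hk0, one_smul])
  obtain ⟨w, hw1, hw2⟩ := exists_sep hψ hc2'
  have e1 := hM v
  rw [hv1] at e1
  simp only [zero_smul, mul_zero, add_zero] at e1
  have e2 := hM w
  rw [hw1] at e2
  simp only [zero_smul, zero_add] at e2
  have hχv : χ ⬝ᵥ v ≠ 0 := by
    intro h0
    rw [h0, zero_smul] at e1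
    rcases smul_eq_zero.1 e1 with h1 | h1
    · exact hv2 h1
    · exact ha h1
  have hcc : c = ((χ ⬝ᵥ v)⁻¹ * (φ ⬝ᵥ v)) • a := by
    rw [mul_smul, e1, smul_smul, inv_mul_cancel₀ hχv, one_smul]
  apply hc1 ((ψ ⬝ᵥ w)⁻¹ * ((χ ⬝ᵥ w) * ((χ ⬝ᵥ v)⁻¹ * (φ ⬝ᵥ v)) - (φ ⬝ᵥ b) * (ψ ⬝ᵥ w)))
  have e3 : (ψ ⬝ᵥ w) • b = ((χ ⬝ᵥ w) * ((χ ⬝ᵥ v)⁻¹ * (φ ⬝ᵥ v)) - (φ ⬝ᵥ b) * (ψ ⬝ᵥ w)) • a := by
    rw [sub_smul, mul_smul (χ ⬝ᵥ w), ← hcc, ← e2]
    abel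
  rw [mul_smul, ← e3, smul_smul, inv_mul_cancel₀ hw2, one_smul]

/-! ### the transvection subgroups of `PSL` -/

/-- images of transvections -/
def IsTv (t : ProjectiveSpecialLinearGroup ι F) : Prop :=
  ∃ (a φ : ι → F) (h : φ ⬝ᵥ a = 0), t = pm (tv a φ h)

/-- transvections with centre `a` -/
def Aa (a : ι → F) : Subgroup (ProjectiveSpecialLinearGroup ι F) where
  carrier := {t | ∃ (φ : ι → F) (h : φ ⬝ᵥ a = 0), t = pm (tv a φ h)}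
  mul_mem' := by
    rintro _ _ ⟨φ, h, rfl⟩ ⟨ψ, h', rfl⟩
    exact ⟨φ + ψ, by rw [add_dotProduct, h, h', add_zero], by
      rw [← pm_mul, tv_mul_same_center]⟩
  one_mem' := ⟨0, by simp, by rw [(tv_eq_one_iff _).2 (Or.inr rfl)]; rfl⟩
  inv_mem' := by
    rintro _ ⟨φ, h, rfl⟩
    exact ⟨-φ, by rw [neg_dotProduct, h, neg_zero], by rw [← pm_inv, tv_inv]⟩

/-- transvections with axis `φ` -/
def Bb (φ : ι → F) : Subgroup (ProjectiveSpecialLinearGroup ι F) where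
  carrier := {t | ∃ (a : ι → F) (h : φ ⬝ᵥ a = 0), t = pm (tv a φ h)}
  mul_mem' := by
    rintro _ _ ⟨a, h, rfl⟩ ⟨b, h', rfl⟩
    exact ⟨a + b, by rw [dotProduct_add, h, h', add_zero], by
      rw [← pm_mul, tv_mul_same_axis]⟩
  one_mem' := ⟨0, by simp, by rw [(tv_eq_one_iff _).2 (Or.inl rfl)]; rfl⟩
  inv_mem' := by
    rintro _ ⟨a, h, rfl⟩
    refine ⟨-a, by rw [dotProduct_neg, h, neg_zero], ?_⟩
    rw [← pm_inv, tv_inv h (by rw [neg_dotProduct, h, neg_zero])]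
    congr 1
    have := tv_smul (a := a) (φ := φ) (-1) (by simp [h]) (by simp [h])
    rw [tv_congr (h' := by simp [h]) rfl (by simp : -φ = (-1 : F) • φ), ← this]
    exact tv_congr (by simp) rfl

theorem mem_Aa {a : ι → F} {t : ProjectiveSpecialLinearGroup ι F} :
    t ∈ Aa a ↔ ∃ (φ : ι → F) (h : φ ⬝ᵥ a = 0), t = pm (tv a φ h) := Iff.rfl

theorem mem_Bb {φ : ι → F} {t : ProjectiveSpecialLinearGroup ι F} :
    t ∈ Bb φ ↔ ∃ (a : ι → F) (h : φ ⬝ᵥ a = 0), t = pm (tv a φ h) := Iff.rfl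

theorem tv_mem_Aa {a φ : ι → F} (h : φ ⬝ᵥ a = 0) : pm (tv a φ h) ∈ Aa a := ⟨φ, h, rfl⟩
theorem tv_mem_Bb {a φ : ι → F} (h : φ ⬝ᵥ a = 0) : pm (tv a φ h) ∈ Bb φ := ⟨a, h, rfl⟩

theorem isTv_of_mem_Aa {a : ι → F} {t : ProjectiveSpecialLinearGroup ι F} (h : t ∈ Aa a) :
    IsTv t := by
  obtain ⟨φ, h, rfl⟩ := h
  exact ⟨a, φ, h, rfl⟩

theorem isTv_of_mem_Bb {φ : ι → F} {t : ProjectiveSpecialLinearGroup ι F} (h : t ∈ Bb φ) :
    IsTv t := by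
  obtain ⟨a, h, rfl⟩ := h
  exact ⟨a, φ, h, rfl⟩

theorem tv_mem_Aa_of_smul {a b ψ : ι → F} {k : F} (hb : b = k • a) (h : ψ ⬝ᵥ b = 0) :
    pm (tv b ψ h) ∈ Aa a := by
  subst hb
  have h1 : (k • ψ) ⬝ᵥ a = 0 := by
    rw [smul_dotProduct, ← dotProduct_smul]; exact h
  rw [tv_smul k h h1]
  exact tv_mem_Aa h1

theorem tv_mem_Bb_of_smul {b φ ψ : ι → F} {k : F} (hψ : ψ = k • φ) (h : ψ ⬝ᵥ b = 0) :
    pm (tv b ψ h) ∈ Bb φ := by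
  subst hψ
  have h1 : φ ⬝ᵥ (k • b) = 0 := by
    rw [dotProduct_smul, ← smul_dotProduct]; exact h
  rw [← tv_smul k h1 h]
  exact tv_mem_Bb h1

theorem pm_tv_eq_one_iff (h3 : 3 ≤ Fintype.card ι) {a φ : ι → F} (h : φ ⬝ᵥ a = 0) :
    pm (tv a φ h) = 1 ↔ a = 0 ∨ φ = 0 := by
  rw [← tv_eq_one_iff h]
  constructor
  · intro h1
    have h2 : pm (tv a φ h) = pm (tv (0 : ι → F) 0 (by simp)) := by
      rw [h1, (tv_eq_one_iff _).2 (Or.inl rfl)]; rfl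
    rw [tv_eq_of_pm_eq h3 h2, (tv_eq_one_iff _).2 (Or.inl rfl)]
  · intro h1
    rw [h1]; rfl

/-- two transvections in a subgroup consisting of transvections share the centre or the axis -/
theorem pair_parallel (h3 : 3 ≤ Fintype.card ι) (H : Subgroup (ProjectiveSpecialLinearGroup ι F))
    (hH : ∀ t ∈ H, IsTv t) {a φ b ψ : ι → F} {h : φ ⬝ᵥ a = 0} {h' : ψ ⬝ᵥ b = 0}
    (ha : a ≠ 0) (hφ : φ ≠ 0) (hψ : ψ ≠ 0)
    (h1 : pm (tv a φ h) ∈ H) (h2 : pm (tv b ψ h') ∈ H) :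
    (∃ k : F, b = k • a) ∨ (∃ k : F, ψ = k • φ) := by
  obtain ⟨c, χ, h'', e⟩ := hH _ (H.mul_mem h1 h2)
  rw [← pm_mul] at e
  exact parallel_of_mul ha hφ hψ (mul_eq_of_pm_eq h3 e)

/-- **classification of transvection subgroups** -/
theorem le_Aa_or_le_Bb (h3 : 3 ≤ Fintype.card ι) (H : Subgroup (ProjectiveSpecialLinearGroup ι F))
    (hH : ∀ t ∈ H, IsTv t) :
    (∃ a : ι → F, a ≠ 0 ∧ H ≤ Aa a) ∨ (∃ φ : ι → F, φ ≠ 0 ∧ H ≤ Bb φ) := by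
  by_cases hbot : H = ⊥
  · left
    have : Nonempty ι := by
      rw [← Fintype.card_pos_iff]; omega
    obtain ⟨i⟩ := this
    refine ⟨Pi.single i 1, ?_, by rw [hbot]; exact bot_le⟩
    intro h0
    have := congrFun h0 i
    simp at this
  obtain ⟨t₀, ht₀, ht₀1⟩ : ∃ t : ProjectiveSpecialLinearGroup ι F, t ∈ H ∧ t ≠ 1 := by
    by_contra hc
    push Not at hc
    exact hbot ((Subgroup.eq_bot_iff_forall H).2 hc)
  obtain ⟨a₀, φ₀, h₀, rfl⟩ := hH _ ht₀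
  have hne : ¬ (a₀ = 0 ∨ φ₀ = 0) := fun h => ht₀1 ((pm_tv_eq_one_iff h3 h₀).2 h)
  push Not at hne
  obtain ⟨ha₀, hφ₀⟩ := hne
  have key : ∀ t ∈ H, t ∈ Aa a₀ ∨ t ∈ Bb φ₀ := by
    intro t ht
    obtain ⟨b, ψ, h, rfl⟩ := hH _ ht
    by_cases hψ : ψ = 0
    · left
      rw [(pm_tv_eq_one_iff h3 h).2 (Or.inr hψ)]
      exact Subgroup.one_mem _
    rcases pair_parallel h3 H hH ha₀ hφ₀ hψ ht₀ ht with ⟨k, hk⟩ | ⟨k, hk⟩
    · left; exact tv_mem_Aa_of_smul hk h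
    · right; exact tv_mem_Bb_of_smul hk h
  by_cases hall : ∀ t ∈ H, t ∈ Aa a₀
  · left; exact ⟨a₀, ha₀, hall⟩
  right
  refine ⟨φ₀, hφ₀, ?_⟩
  push Not at hall
  obtain ⟨t₁, ht₁, ht₁A⟩ := hall
  have ht₁B : t₁ ∈ Bb φ₀ := (key t₁ ht₁).resolve_left ht₁A
  obtain ⟨a₁, h₁, rfl⟩ := ht₁B
  intro t ht
  by_contra htB
  have htA : t ∈ Aa a₀ := (key t ht).resolve_right htB
  obtain ⟨ψ, h, rfl⟩ := htA
  have ha₁ : a₁ ≠ 0 := by
    rintro rfl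
    apply ht₁A
    rw [(pm_tv_eq_one_iff h3 h₁).2 (Or.inl rfl)]
    exact Subgroup.one_mem _
  have hψ : ψ ≠ 0 := by
    rintro rfl
    apply htB
    rw [(pm_tv_eq_one_iff h3 h).2 (Or.inr rfl)]
    exact Subgroup.one_mem _
  rcases pair_parallel h3 H hH ha₁ hφ₀ hψ ht₁ ht with ⟨k, hk⟩ | ⟨k, hk⟩
  · apply ht₁A
    have hk0 : k ≠ 0 := by
      rintro rfl
      exact ha₀ (by rw [hk, zero_smul])
    exact tv_mem_Aa_of_smul (k := k⁻¹) (by rw [hk, smul_smul, inv_mul_cancel₀ hk0, one_smul]) h₁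
  · exact htB (tv_mem_Bb_of_smul hk h)

end Cfsg.Agent.Lib.Helper18.AutPSL
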