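import Mathlib
import Cfsg.Agent.Lib.Helper18.AutPSL.TvSub

set_option autoImplicit false

/-!
Incidence relations between the transvection subgroups and the action of the standard
automorphisms on them.
-/

namespace Cfsg.Agent.Lib.Helper18.AutPSL

open Matrix MatrixGroups Pointwise

variable {ι : Type*} [Fintype ι] [DecidableEq ι] {F : Type*} [Field F]

theorem Aa_smul {k : F} (hk : k ≠ 0) (a : ι → F) : Aa (k • a) = Aa a := by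
  apply le_antisymm
  · rintro _ ⟨φ, h, rfl⟩
    exact tv_mem_Aa_of_smul rfl h
  · rintro _ ⟨φ, h, rfl⟩
    exact tv_mem_Aa_of_smul (k := k⁻¹) (by rw [smul_smul, inv_mul_cancel₀ hk, one_smul]) h

theorem Bb_smul {k : F} (hk : k ≠ 0) (φ : ι → F) : Bb (k • φ) = Bb φ := by
  apply le_antisymm
  · rintro _ ⟨a, h, rfl⟩
    exact tv_mem_Bb_of_smul rfl h
  · rintro _ ⟨a, h, rfl⟩
    exact tv_mem_Bb_of_smul (k := k⁻¹) (by rw [smul_smul, inv_mul_cancel₀ hk, one_smul]) h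

theorem exists_ne_one_of_ne_bot {G : Type*} [Group G] {H : Subgroup G} (h : H ≠ ⊥) :
    ∃ t ∈ H, t ≠ 1 := by
  by_contra hc
  push Not at hc
  exact h ((Subgroup.eq_bot_iff_forall H).2 hc)

theorem ne_bot_of_mem {G : Type*} [Group G] {H : Subgroup G} {t : G} (h : t ∈ H) (h1 : t ≠ 1) :
    H ≠ ⊥ := by
  rintro rfl
  exact h1 (Subgroup.mem_bot.1 h)

theorem Aa_eq_of_inf_ne_bot (h3 : 3 ≤ Fintype.card ι) {a b : ι → F}
    (h : Aa a ⊓ Aa b ≠ ⊥) : Aa a = Aa b := by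
  obtain ⟨t, ⟨⟨φ, h1, rfl⟩, ⟨ψ, h2, e⟩⟩, ht⟩ := exists_ne_one_of_ne_bot h
  have hne : ¬ (a = 0 ∨ φ = 0) := fun h => ht ((pm_tv_eq_one_iff h3 h1).2 h)
  push Not at hne
  obtain ⟨c, hc, hb, -⟩ := vecMulVec_eq_vecMulVec hne.1 hne.2 (vec_eq_of_tv_eq (tv_eq_of_pm_eq h3 e))
  rw [hb, Aa_smul hc]

theorem Bb_eq_of_inf_ne_bot (h3 : 3 ≤ Fintype.card ι) {φ ψ : ι → F}
    (h : Bb φ ⊓ Bb ψ ≠ ⊥) : Bb φ = Bb ψ := by
  obtain ⟨t, ⟨⟨a, h1, rfl⟩, ⟨b, h2, e⟩⟩, ht⟩ := exists_ne_one_of_ne_bot h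
  have hne : ¬ (a = 0 ∨ φ = 0) := fun h => ht ((pm_tv_eq_one_iff h3 h1).2 h)
  push Not at hne
  obtain ⟨c, hc, -, hb⟩ := vecMulVec_eq_vecMulVec hne.1 hne.2 (vec_eq_of_tv_eq (tv_eq_of_pm_eq h3 e))
  rw [hb, Bb_smul hc]

theorem inf_Aa_Bb_ne_bot_iff (h3 : 3 ≤ Fintype.card ι) {a φ : ι → F} (ha : a ≠ 0) (hφ : φ ≠ 0) :
    Aa a ⊓ Bb φ ≠ ⊥ ↔ φ ⬝ᵥ a = 0 := by
  constructor
  · intro h
    obtain ⟨t, ⟨⟨ψ, h1, rfl⟩, ⟨b, h2, e⟩⟩, ht⟩ := exists_ne_one_of_ne_bot h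
    have hne : ¬ (a = 0 ∨ ψ = 0) := fun h => ht ((pm_tv_eq_one_iff h3 h1).2 h)
    push Not at hne
    obtain ⟨c, hc, hb, -⟩ :=
      vecMulVec_eq_vecMulVec hne.1 hne.2 (vec_eq_of_tv_eq (tv_eq_of_pm_eq h3 e))
    rw [hb, dotProduct_smul, smul_eq_mul] at h2
    exact (mul_eq_zero.1 h2).resolve_left hc
  · intro h
    apply ne_bot_of_mem (t := pm (tv a φ h)) (Subgroup.mem_inf.2 ⟨tv_mem_Aa h, tv_mem_Bb h⟩)
    intro h1
    rcases (pm_tv_eq_one_iff h3 h).1 h1 with h2 | h2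
    · exact ha h2
    · exact hφ h2

theorem exists_perp (h3 : 3 ≤ Fintype.card ι) (a b : ι → F) :
    ∃ φ : ι → F, φ ≠ 0 ∧ φ ⬝ᵥ a = 0 ∧ φ ⬝ᵥ b = 0 := by
  obtain ⟨v, hv, h1, h2⟩ := exists_common_zero h3 a b
  exact ⟨v, hv, by rw [dotProduct_comm]; exact h1, by rw [dotProduct_comm]; exact h2⟩

theorem Aa_ne_Bb (h3 : 3 ≤ Fintype.card ι) {a : ι → F} (ha : a ≠ 0) (φ : ι → F) :
    Aa a ≠ Bb φ := by
  intro he
  obtain ⟨φ₁, hφ₁, h1, -⟩ := exists_perp h3 a a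
  obtain ⟨j, hj⟩ := exists_ne_zero_entry hφ₁
  obtain ⟨φ₂, hφ₂, h2, h2'⟩ := exists_perp h3 a (Pi.single j 1)
  rw [dotProduct_single_one] at h2'
  have m1 : pm (tv a φ₁ h1) ∈ Bb φ := he ▸ tv_mem_Aa h1
  have m2 : pm (tv a φ₂ h2) ∈ Bb φ := he ▸ tv_mem_Aa h2
  obtain ⟨b₁, g1, e1⟩ := m1
  obtain ⟨b₂, g2, e2⟩ := m2
  obtain ⟨c₁, hc₁, -, k1⟩ := vecMulVec_eq_vecMulVec ha hφ₁ (vec_eq_of_tv_eq (tv_eq_of_pm_eq h3 e1))
  obtain ⟨c₂, hc₂, -, k2⟩ := vecMulVec_eq_vecMulVec ha hφ₂ (vec_eq_of_tv_eq (tv_eq_of_pm_eq h3 e2))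
  have l1 := congrFun k1 j
  have l2 := congrFun k2 j
  simp only [Pi.smul_apply, smul_eq_mul] at l1 l2
  rw [h2'] at l2
  have : φ j = 0 := (mul_eq_zero.1 l2.symm).resolve_left hc₂
  rw [this, mul_zero] at l1
  exact hj l1

/-! ### the action of automorphisms on subgroups -/

theorem smul_le_of_forall {G : Type*} [Group G] (β : MulAut G) {H K : Subgroup G}
    (h : ∀ t ∈ H, β t ∈ K) : β • H ≤ K := by
  intro x hx
  rw [Subgroup.mem_smul_pointwise_iff_exists] at hx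
  obtain ⟨s, hs, rfl⟩ := hx
  exact h s hs

theorem cG_smul_Aa_le (g : GL ι F) (a : ι → F) : cG g • Aa a ≤ Aa (g.1 *ᵥ a) := by
  apply smul_le_of_forall
  rintro _ ⟨φ, h, rfl⟩
  rw [cG_pm, conjS_tv g h (conj_dot g h)]
  exact tv_mem_Aa _

theorem cG_smul_Aa (g : GL ι F) (a : ι → F) : cG g • Aa a = Aa (g.1 *ᵥ a) := by
  apply le_antisymm (cG_smul_Aa_le g a)
  have h := cG_smul_Aa_le g⁻¹ (g.1 *ᵥ a)
  rw [Matrix.mulVec_mulVec, Units.inv_mul, Matrix.one_mulVec, map_inv] at h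
  rwa [← Subgroup.pointwise_smul_le_pointwise_smul_iff (a := cG g), smul_inv_smul] at h

theorem cG_smul_Bb_le (g : GL ι F) (φ : ι → F) : cG g • Bb φ ≤ Bb (φ ᵥ* g⁻¹.1) := by
  apply smul_le_of_forall
  rintro _ ⟨a, h, rfl⟩
  rw [cG_pm, conjS_tv g h (conj_dot g h)]
  exact tv_mem_Bb _

theorem cG_smul_Bb (g : GL ι F) (φ : ι → F) : cG g • Bb φ = Bb (φ ᵥ* g⁻¹.1) := by
  apply le_antisymm (cG_smul_Bb_le g φ)
  have h := cG_smul_Bb_le g⁻¹ (φ ᵥ* g⁻¹.1)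
  rw [inv_inv, Matrix.vecMul_vecMul, Units.inv_mul, Matrix.vecMul_one, map_inv] at h
  rwa [← Subgroup.pointwise_smul_le_pointwise_smul_iff (a := cG g), smul_inv_smul] at h

local notation "γ" => (gr : MulAut (ProjectiveSpecialLinearGroup ι F))

theorem gr_smul_Aa_le (a : ι → F) : γ • Aa a ≤ Bb a := by
  apply smul_le_of_forall
  rintro _ ⟨φ, h, rfl⟩
  rw [gr_pm, invT_tv h (by rw [neg_dotProduct, dotProduct_comm, h, neg_zero])]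
  exact tv_mem_Bb_of_smul (k := -1) (by simp) _

theorem gr_smul_Bb_le (φ : ι → F) : γ • Bb φ ≤ Aa φ := by
  apply smul_le_of_forall
  rintro _ ⟨a, h, rfl⟩
  rw [gr_pm, invT_tv h (by rw [neg_dotProduct, dotProduct_comm, h, neg_zero])]
  exact tv_mem_Aa _

theorem gr_smul_gr_smul (H : Subgroup (ProjectiveSpecialLinearGroup ι F)) : γ • γ • H = H := by
  rw [smul_smul, gr_mul_gr, one_smul]

theorem gr_smul_Aa (a : ι → F) : γ • Aa a = Bb a := by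
  apply le_antisymm (gr_smul_Aa_le a)
  have h := gr_smul_Bb_le a
  rwa [← Subgroup.pointwise_smul_le_pointwise_smul_iff (a := γ), gr_smul_gr_smul] at h

theorem gr_smul_Bb (φ : ι → F) : γ • Bb φ = Aa φ := by
  rw [← gr_smul_Aa, gr_smul_gr_smul]

theorem fld_smul_Aa_le (σ : F ≃+* F) (a : ι → F) :
    (autQ (fldS σ) : MulAut (ProjectiveSpecialLinearGroup ι F)) • Aa a ≤ Aa (σ ∘ a) := by
  apply smul_le_of_forall
  rintro _ ⟨φ, h, rfl⟩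
  rw [autQ_pm, fldS_tv]
  exact tv_mem_Aa _

end Cfsg.Agent.Lib.Helper18.AutPSL
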