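import Mathlib
import Cfsg.Agent.Lib.Helper18.AutPSL.Incidence

set_option autoImplicit false

/-!
Automorphisms of `PSL(ι, F)`, `F` finite, preserve the set of transvections: the transvections are
the central elements of Sylow `p`-subgroups.
-/

namespace Cfsg.Agent.Lib.Helper18.AutPSL

open Matrix MatrixGroups Pointwise

variable {ι : Type*} [Fintype ι] [DecidableEq ι] {F : Type*} [Field F]

/-- standard basis vector -/
abbrev ee (i : ι) : ι → F := Pi.single i 1

theorem ee_ne_zero (i : ι) : (ee i : ι → F) ≠ 0 := by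
  intro h0
  have := congrFun h0 i
  simp at this

theorem ee_dot_ee {i j : ι} (hij : i ≠ j) : (ee j : ι → F) ⬝ᵥ ee i = 0 := by
  rw [dotProduct_single_one]
  simp [hij]

/-- root elements `1 + c E_{ij}` -/
def xr {i j : ι} (hij : i ≠ j) (c : F) : SpecialLinearGroup ι F :=
  tv (ee i) (c • ee j) (by rw [smul_dotProduct, ee_dot_ee hij, smul_zero])

theorem xr_def {i j : ι} (hij : i ≠ j) (c : F) :
    xr hij c = tv (ee i) (c • ee j) (by rw [smul_dotProduct, ee_dot_ee hij, smul_zero]) := rfl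

theorem isTv_one : IsTv (1 : ProjectiveSpecialLinearGroup ι F) :=
  ⟨0, 0, by simp, by rw [(tv_eq_one_iff _).2 (Or.inl rfl)]; rfl⟩

theorem IsTv.cG {t : ProjectiveSpecialLinearGroup ι F} (h : IsTv t) (g : GL ι F) :
    IsTv (cG g t) := by
  obtain ⟨a, φ, h, rfl⟩ := h
  rw [cG_pm, conjS_tv g h (conj_dot g h)]
  exact ⟨_, _, _, rfl⟩

/-- an element of `SL` commuting modulo scalars with a transvection commutes with it -/
theorem commute_of_pm_commute (h3 : 3 ≤ Fintype.card ι) (z : SpecialLinearGroup ι F)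
    {a φ : ι → F} (h : φ ⬝ᵥ a = 0) (hz : pm (tv a φ h) * pm z = pm z * pm (tv a φ h)) :
    z.1 * vecMulVec a φ = vecMulVec a φ * z.1 := by
  have h1 : pm (conjS (SpecialLinearGroup.toGL z) (tv a φ h)) = pm (tv a φ h) := by
    rw [conjS_toGL, pm_mul, pm_mul, ← hz, pm_inv, mul_inv_cancel_right]
  rw [conjS_tv _ h (conj_dot _ h)] at h1
  have h2 := tv_eq_of_pm_eq h3 h1
  rw [← conjS_tv _ h (conj_dot _ h)] at h2
  have h4 := conjS_mul (SpecialLinearGroup.toGL z) (tv a φ h)
  rw [h2] at h4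
  have h5 : (tv a φ h).1 * z.1 = z.1 * (tv a φ h).1 := h4
  rw [tv_val, Matrix.add_mul, Matrix.mul_add, Matrix.one_mul, Matrix.mul_one] at h5
  exact (add_left_cancel h5).symm

/-- the centraliser of `Aa (e i)` and `Bb (e j)` -/
theorem central_form (h3 : 3 ≤ Fintype.card ι) {i j : ι} (hij : i ≠ j)
    (z : ProjectiveSpecialLinearGroup ι F)
    (hA : ∀ y ∈ Aa (ee i : ι → F), y * z = z * y) (hB : ∀ y ∈ Bb (ee j : ι → F), y * z = z * y) :
    ∃ c : F, z = pm (xr hij c) := by
  obtain ⟨z, rfl⟩ := pm_surjective z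
  have hA' : ∀ k, k ≠ i → ∀ r s, z.1 r i * (if s = k then 1 else 0) =
      (if r = i then 1 else 0) * z.1 k s := by
    intro k hk r s
    have h1 := commute_of_pm_commute h3 z (ee_dot_ee hk.symm) (hA _ (tv_mem_Aa _))
    rw [mul_vecMulVec, vecMulVec_mul] at h1
    have h2 := congrFun (congrFun h1 r) s
    simp only [vecMulVec_apply, Matrix.mulVec_single_one, Matrix.single_one_vecMul,
      Pi.single_apply, Matrix.col_apply, Matrix.row_apply] at h2
    exact h2
  have hB' : ∀ k, k ≠ j → ∀ r s, z.1 r k * (if s = j then 1 else 0) =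
      (if r = k then 1 else 0) * z.1 j s := by
    intro k hk r s
    have h1 := commute_of_pm_commute h3 z (ee_dot_ee hk) (hB _ (tv_mem_Bb _))
    rw [mul_vecMulVec, vecMulVec_mul] at h1
    have h2 := congrFun (congrFun h1 r) s
    simp only [vecMulVec_apply, Matrix.mulVec_single_one, Matrix.single_one_vecMul,
      Pi.single_apply, Matrix.col_apply, Matrix.row_apply] at h2
    exact h2
  set l := z.1 i i with hl
  have hdiag : ∀ k, z.1 k k = l := by
    intro k
    by_cases hk : k = i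
    · rw [hk]
    · have := hA' k hk i k
      simpa using this.symm
  have hoff : ∀ r s, r ≠ s → ¬ (r = i ∧ s = j) → z.1 r s = 0 := by
    intro r s hrs hn
    by_cases hr : r = i
    · have hs : s ≠ j := fun hs => hn ⟨hr, hs⟩
      have := hB' s hs r j
      simpa [hrs] using this
    · have := hA' r hr i s
      simpa [hrs.symm] using this.symm
  have hl0 : l ≠ 0 := by
    intro h0
    have hdet := z.2
    rw [Matrix.det_eq_zero_of_row_eq_zero j] at hdet
    · exact zero_ne_one hdet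
    · intro s
      by_cases hs : j = s
      · rw [← hs, hdiag, h0]
      · exact hoff j s hs (fun h => hij h.1.symm)
  refine ⟨z.1 i j / l, ?_⟩
  symm
  apply pm_eq_of_smul (ε := l)
  ext r s
  rw [xr_def, tv_val]
  simp only [Matrix.smul_apply, Matrix.add_apply, vecMulVec_apply, Pi.smul_apply, smul_eq_mul,
    Pi.single_apply]
  by_cases hrs : r = s
  · subst hrs
    rw [hdiag]
    by_cases hr : r = i
    · have : r ≠ j := fun h => hij (hr.symm.trans h)
      simp [this]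
    · simp [hr]
  · by_cases hn : r = i ∧ s = j
    · obtain ⟨rfl, rfl⟩ := hn
      simp [hrs]
      field_simp
    · rw [hoff r s hrs hn]
      simp only [Matrix.one_apply_ne hrs]
      by_cases hr : r = i
      · have hs : s ≠ j := fun hs => hn ⟨hr, hs⟩
        simp [hs]
      · simp [hr]

section Sylow

variable [Fintype F] (p : ℕ) [Fact p.Prime] [CharP F p]

omit [Fintype F] [Fact p.Prime] in
theorem isPGroup_Aa (a : ι → F) : IsPGroup p (Aa a) := by
  rintro ⟨_, φ, h, rfl⟩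
  refine ⟨1, Subtype.ext ?_⟩
  show (pm (tv a φ h)) ^ (p ^ 1) = 1
  rw [pow_one, ← QuotientGroup.mk_pow, tv_pow_char p h]
  rfl

omit [Fintype F] [Fact p.Prime] in
theorem isPGroup_Bb (φ : ι → F) : IsPGroup p (Bb φ) := by
  rintro ⟨_, a, h, rfl⟩
  refine ⟨1, Subtype.ext ?_⟩
  show (pm (tv a φ h)) ^ (p ^ 1) = 1
  rw [pow_one, ← QuotientGroup.mk_pow, tv_pow_char p h]
  rfl

omit [Fintype F] in
theorem Bb_le_normalizer_Aa {a φ : ι → F} (h : φ ⬝ᵥ a = 0) :
    Bb φ ≤ Subgroup.normalizer (Aa a : Set (ProjectiveSpecialLinearGroup ι F)) := by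
  rintro _ ⟨b, hb, rfl⟩
  have h1 : MulAut.conj (pm (tv b φ hb)) • Aa a = Aa a := by
    rw [← cG_toGL, cG_smul_Aa]
    congr 1
    show (tv b φ hb).1 *ᵥ a = a
    rw [tv_mulVec, h, zero_smul, add_zero]
  rw [Subgroup.mem_normalizer_iff]
  intro x
  constructor
  · intro hx
    rw [← h1]
    exact Subgroup.smul_mem_pointwise_smul x _ _ hx
  · intro hx
    rw [← h1, Subgroup.mem_smul_pointwise_iff_exists] at hx
    obtain ⟨s, hs, e⟩ := hx
    have : s = x := (MulAut.conj (pm (tv b φ hb))).injective e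
    rwa [← this]

/-- central elements of Sylow `p`-subgroups -/
def IsSylCentral (z : ProjectiveSpecialLinearGroup ι F) : Prop :=
  z ≠ 1 ∧ ∃ P : Sylow p (ProjectiveSpecialLinearGroup ι F), z ∈ P ∧ ∀ y ∈ P, y * z = z * y

theorem IsSylCentral.map {z : ProjectiveSpecialLinearGroup ι F} (h : IsSylCentral p z)
    (β : MulAut (ProjectiveSpecialLinearGroup ι F)) : IsSylCentral p (β z) := by
  obtain ⟨h1, P, hz, hc⟩ := h
  refine ⟨fun h0 => h1 (β.injective (by rw [h0, map_one])), ?_⟩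
  have hβ : Function.Surjective β.toMonoidHom := β.surjective
  refine ⟨P.mapSurjective hβ, ⟨z, hz, rfl⟩, ?_⟩
  rintro _ ⟨y, hy, rfl⟩
  show β y * β z = β z * β y
  rw [← map_mul, ← map_mul, hc y hy]

theorem exists_sylow_ge {i j : ι} (hij : i ≠ j) :
    ∃ P : Sylow p (ProjectiveSpecialLinearGroup ι F),
      Aa (ee i : ι → F) ≤ P ∧ Bb (ee j : ι → F) ≤ P := by
  have hR : IsPGroup p (Bb (ee j : ι → F) ⊔ Aa (ee i : ι → F) : Subgroup _) :=
    IsPGroup.to_sup_of_normal_right' (isPGroup_Bb p _) (isPGroup_Aa p _)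
      (Bb_le_normalizer_Aa (ee_dot_ee hij))
  obtain ⟨P, hP⟩ := hR.exists_le_sylow
  exact ⟨P, le_trans le_sup_right hP, le_trans le_sup_left hP⟩

theorem IsSylCentral.isTv (h3 : 3 ≤ Fintype.card ι) {z : ProjectiveSpecialLinearGroup ι F}
    (h : IsSylCentral p z) : IsTv z := by
  obtain ⟨-, P, hz, hc⟩ := h
  obtain ⟨i, j, hij⟩ : ∃ i j : ι, i ≠ j := by
    have : 1 < Fintype.card ι := by omega
    exact Fintype.one_lt_card_iff.1 this
  obtain ⟨P₀, hA, hB⟩ := exists_sylow_ge (F := F) p hij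
  obtain ⟨g, hg⟩ := MulAction.exists_smul_eq (ProjectiveSpecialLinearGroup ι F) P₀ P
  have hmem : ∀ y, y ∈ P₀ → g * y * g⁻¹ ∈ P := by
    intro y hy
    rw [← hg]
    show g * y * g⁻¹ ∈ ((g • P₀ : Sylow p _) : Subgroup (ProjectiveSpecialLinearGroup ι F))
    rw [Sylow.coe_subgroup_smul]
    exact Subgroup.smul_mem_pointwise_smul y (MulAut.conj g) _ hy
  have hcomm : ∀ y ∈ P₀, y * (g⁻¹ * z * g) = (g⁻¹ * z * g) * y := by
    intro y hy
    have := hc _ (hmem y hy)
    calc y * (g⁻¹ * z * g) = g⁻¹ * ((g * y * g⁻¹) * z) * g := by group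
      _ = g⁻¹ * (z * (g * y * g⁻¹)) * g := by rw [this]
      _ = (g⁻¹ * z * g) * y := by group
  obtain ⟨c, hc'⟩ := central_form h3 hij (g⁻¹ * z * g) (fun y hy => hcomm y (hA hy))
    (fun y hy => hcomm y (hB hy))
  obtain ⟨g, rfl⟩ := pm_surjective g
  have hz' : z = cG (SpecialLinearGroup.toGL g) (pm g⁻¹ * z * pm g) := by
    rw [cG_toGL, MulAut.conj_apply, pm_inv]; group
  rw [hz']
  apply IsTv.cG
  rw [pm_inv, hc']
  exact ⟨_, _, _, rfl⟩

theorem exists_isSylCentral (h3 : 3 ≤ Fintype.card ι) {i j : ι} (hij : i ≠ j) :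
    ∃ c : F, c ≠ 0 ∧ IsSylCentral p (pm (xr hij c)) := by
  obtain ⟨P₀, hA, hB⟩ := exists_sylow_ge (F := F) p hij
  have hnt : Nontrivial P₀ := by
    refine ⟨⟨⟨pm (tv (ee i) (ee j) (ee_dot_ee hij)), hA (tv_mem_Aa _)⟩, 1, ?_⟩⟩
    intro h0
    have h1 : pm (tv (ee i : ι → F) (ee j) (ee_dot_ee hij)) = 1 := congrArg Subtype.val h0
    rcases (pm_tv_eq_one_iff h3 _).1 h1 with h2 | h2
    · exact ee_ne_zero i h2
    · exact ee_ne_zero j h2
  have hcn := IsPGroup.center_nontrivial P₀.2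
  obtain ⟨⟨⟨z, hzP⟩, hzc⟩, hz1⟩ := exists_ne (1 : Subgroup.center P₀)
  have hz1' : z ≠ 1 := by
    intro h0
    apply hz1
    apply Subtype.ext
    apply Subtype.ext
    exact h0
  have hcomm : ∀ y ∈ P₀, y * z = z * y := by
    intro y hy
    have := Subgroup.mem_center_iff.1 hzc ⟨y, hy⟩
    exact congrArg Subtype.val this
  obtain ⟨c, hc⟩ := central_form h3 hij z (fun y hy => hcomm y (hA hy)) (fun y hy => hcomm y (hB hy))
  refine ⟨c, ?_, ?_⟩
  · rintro rfl
    apply hz1'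
    rw [hc, xr_def]
    exact (pm_tv_eq_one_iff h3 _).2 (Or.inr (zero_smul _ _))
  · rw [← hc]
    exact ⟨hz1', P₀, hzP, hcomm⟩

end Sylow

end Cfsg.Agent.Lib.Helper18.AutPSL
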