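import Mathlib
import Cfsg.Agent.Lib.Helper18.AutPSL.TvAut

set_option autoImplicit false

/-!
All transvections are conjugate under `GL` to root elements; automorphisms preserve transvections.
-/

namespace Cfsg.Agent.Lib.Helper18.AutPSL

open Matrix MatrixGroups Pointwise

variable {ι : Type*} [Fintype ι] [DecidableEq ι] {F : Type*} [Field F]

/-- a matrix is invertible if no nonzero row vector kills all its columns -/
theorem det_ne_zero_of_cols (col : ι → ι → F)
    (h : ∀ ψ : ι → F, (∀ k, ψ ⬝ᵥ col k = 0) → ψ = 0) :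
    (Matrix.of (fun r k => col k r)).det ≠ 0 := by
  intro h0
  obtain ⟨ψ, hψ, hψ0⟩ := Matrix.exists_vecMul_eq_zero_iff.2 h0
  apply hψ
  apply h
  intro k
  have := congrFun hψ0 k
  simpa [Matrix.vecMul, dotProduct] using this

theorem of_cols_mulVec_ee (col : ι → ι → F) (k : ι) :
    (Matrix.of (fun r k => col k r)) *ᵥ (ee k : ι → F) = col k := by
  rw [Matrix.mulVec_single_one]
  rfl

theorem vecMul_of_cols (col : ι → ι → F) (φ : ι → F) :
    φ ᵥ* (Matrix.of (fun r k => col k r)) = fun k => φ ⬝ᵥ col k := by
  funext k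
  simp [Matrix.vecMul, dotProduct]

/-- every transvection is conjugate under `GL` to a root element with prescribed parameter -/
theorem exists_gl_conj {a φ : ι → F} (h : φ ⬝ᵥ a = 0) (ha : a ≠ 0) (hφ : φ ≠ 0) :
    ∃ (i j : ι) (hij : i ≠ j), ∀ c : F, c ≠ 0 → ∃ g : GL ι F, conjS g (xr hij c) = tv a φ h := by
  obtain ⟨j, hj⟩ := exists_ne_zero_entry hφ
  obtain ⟨i, hij, hi⟩ : ∃ i, i ≠ j ∧ a i ≠ 0 := by
    by_contra hc
    push Not at hc
    have h1 : φ ⬝ᵥ a = φ j * a j := by
      rw [dotProduct]
      apply Finset.sum_eq_single j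
      · intro b _ hb
        rw [hc b hb, mul_zero]
      · intro hj'
        exact absurd (Finset.mem_univ j) hj'
    rw [h] at h1
    have h2 : a j = 0 := (mul_eq_zero.1 h1.symm).resolve_left hj
    apply ha
    funext k
    by_cases hk : k = j
    · rw [hk, h2]; rfl
    · exact hc k hk
  refine ⟨i, j, hij, fun c hc => ?_⟩
  let col : ι → ι → F := fun k =>
    if k = i then a else if k = j then (c / φ j) • ee j else ee k - (φ k / φ j) • ee j
  have hcoli : col i = a := by simp [col]
  have hcolj : col j = (c / φ j) • ee j := by simp [col, hij.symm]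
  have hcolk : ∀ k, k ≠ i → k ≠ j → col k = ee k - (φ k / φ j) • ee j := by
    intro k h1 h2
    simp [col, h1, h2]
  have hdet : (Matrix.of (fun r k => col k r)).det ≠ 0 := by
    apply det_ne_zero_of_cols
    intro ψ hψ
    have hψj : ψ j = 0 := by
      have := hψ j
      rw [hcolj, dotProduct_smul, dotProduct_single_one, smul_eq_mul] at this
      exact (mul_eq_zero.1 this).resolve_left (div_ne_zero hc hj)
    have hψk : ∀ k, k ≠ i → ψ k = 0 := by
      intro k hk
      by_cases hkj : k = j
      · rw [hkj, hψj]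
      have := hψ k
      rw [hcolk k hk hkj, dotProduct_sub, dotProduct_smul, dotProduct_single_one,
        dotProduct_single_one, hψj, smul_zero, sub_zero] at this
      exact this
    have hψi : ψ i = 0 := by
      have := hψ i
      rw [hcoli] at this
      have h1 : ψ ⬝ᵥ a = ψ i * a i := by
        rw [dotProduct]
        apply Finset.sum_eq_single i
        · intro b _ hb
          rw [hψk b hb, zero_mul]
        · intro hi'
          exact absurd (Finset.mem_univ i) hi'
      rw [h1] at this
      exact (mul_eq_zero.1 this).resolve_right hi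
    funext k
    by_cases hk : k = i
    · rw [hk, hψi]; rfl
    · exact hψk k hk
  let g : GL ι F := GeneralLinearGroup.mkOfDetNeZero _ hdet
  have hg : g.1 = Matrix.of (fun r k => col k r) := rfl
  refine ⟨g, ?_⟩
  have hx : (c • ee j : ι → F) ⬝ᵥ ee i = 0 := by rw [smul_dotProduct, ee_dot_ee hij, smul_zero]
  rw [xr_def, conjS_tv g hx (conj_dot g hx)]
  apply tv_congr
  · rw [hg, of_cols_mulVec_ee, hcoli]
  · have h1 : φ ᵥ* g.1 = c • ee j := by
      rw [hg, vecMul_of_cols]
      funext k
      by_cases hki : k = i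
      · rw [hki, hcoli, h]
        simp [hij]
      by_cases hkj : k = j
      · rw [hkj, hcolj, dotProduct_smul, dotProduct_single_one, smul_eq_mul]
        simp
        field_simp
      · rw [hcolk k hki hkj, dotProduct_sub, dotProduct_smul, dotProduct_single_one,
          dotProduct_single_one, smul_eq_mul]
        simp [hkj]
        field_simp
        ring
    rw [← h1, Matrix.vecMul_vecMul, Units.mul_inv, Matrix.vecMul_one]

/-- **automorphisms of `PSL` preserve transvections** -/
theorem aut_isTv [Fintype F] (p : ℕ) [Fact p.Prime] [CharP F p] (h3 : 3 ≤ Fintype.card ι)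
    (β : MulAut (ProjectiveSpecialLinearGroup ι F)) {t : ProjectiveSpecialLinearGroup ι F}
    (ht : IsTv t) : IsTv (β t) := by
  obtain ⟨a, φ, h, rfl⟩ := ht
  by_cases h0 : a = 0 ∨ φ = 0
  · rw [(pm_tv_eq_one_iff h3 h).2 h0, map_one]
    exact isTv_one
  push Not at h0
  obtain ⟨i, j, hij, hg⟩ := exists_gl_conj h h0.1 h0.2
  obtain ⟨c, hc, hS⟩ := exists_isSylCentral (F := F) p h3 hij
  obtain ⟨g, hg⟩ := hg c hc
  have h1 : pm (tv a φ h) = cG g (pm (xr hij c)) := by rw [cG_pm, hg]
  rw [h1]
  exact ((hS.map p (cG g)).map p β).isTv p h3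

end Cfsg.Agent.Lib.Helper18.AutPSL
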