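import Mathlib
import Cfsg.Agent.Lib.Helper18.AutPSL.TvAut2

set_option autoImplicit false

/-!
The action of an automorphism on the maximal transvection subgroups.
-/

namespace Cfsg.Agent.Lib.Helper18.AutPSL

open Matrix MatrixGroups Pointwise

variable {ι : Type*} [Fintype ι] [DecidableEq ι] {F : Type*} [Field F]

local notation "γ" => (gr : MulAut (ProjectiveSpecialLinearGroup ι F))

/-- the hypothesis that all automorphisms preserve transvections -/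
def TvInv (ι : Type*) [Fintype ι] [DecidableEq ι] (F : Type*) [Field F] : Prop :=
  ∀ (β : MulAut (ProjectiveSpecialLinearGroup ι F)) (t : ProjectiveSpecialLinearGroup ι F),
    IsTv t → IsTv (β t)

theorem not_Aa_le_Bb (h3 : 3 ≤ Fintype.card ι) {a : ι → F} (ha : a ≠ 0) (φ : ι → F) :
    ¬ Aa a ≤ Bb φ := by
  intro he
  obtain ⟨φ₁, hφ₁, h1, -⟩ := exists_perp h3 a a
  obtain ⟨j, hj⟩ := exists_ne_zero_entry hφ₁
  obtain ⟨φ₂, hφ₂, h2, h2'⟩ := exists_perp h3 a (Pi.single j 1)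
  rw [dotProduct_single_one] at h2'
  obtain ⟨b₁, g1, e1⟩ := he (tv_mem_Aa h1)
  obtain ⟨b₂, g2, e2⟩ := he (tv_mem_Aa h2)
  obtain ⟨c₁, hc₁, -, k1⟩ := vecMulVec_eq_vecMulVec ha hφ₁ (vec_eq_of_tv_eq (tv_eq_of_pm_eq h3 e1))
  obtain ⟨c₂, hc₂, -, k2⟩ := vecMulVec_eq_vecMulVec ha hφ₂ (vec_eq_of_tv_eq (tv_eq_of_pm_eq h3 e2))
  have l1 := congrFun k1 j
  have l2 := congrFun k2 j
  simp only [Pi.smul_apply, smul_eq_mul] at l1 l2
  rw [h2'] at l2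
  have : φ j = 0 := (mul_eq_zero.1 l2.symm).resolve_left hc₂
  rw [this, mul_zero] at l1
  exact hj l1

theorem Aa_ne_bot (h3 : 3 ≤ Fintype.card ι) {a : ι → F} (ha : a ≠ 0) : Aa a ≠ ⊥ := by
  obtain ⟨φ, hφ, h1, -⟩ := exists_perp h3 a a
  apply ne_bot_of_mem (tv_mem_Aa h1)
  intro h0
  rcases (pm_tv_eq_one_iff h3 h1).1 h0 with h | h
  · exact ha h
  · exact hφ h

/-- `Aa a` is a maximal transvection subgroup -/
theorem Aa_maximal (h3 : 3 ≤ Fintype.card ι) {a : ι → F} (ha : a ≠ 0)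
    {X : Subgroup (ProjectiveSpecialLinearGroup ι F)} (hX : ∀ t ∈ X, IsTv t) (hle : Aa a ≤ X) :
    X = Aa a := by
  apply le_antisymm _ hle
  rcases le_Aa_or_le_Bb h3 X hX with ⟨c, hc, h⟩ | ⟨χ, hχ, h⟩
  · have h1 : Aa a ⊓ Aa c ≠ ⊥ := by
      rw [inf_eq_left.2 (hle.trans h)]
      exact Aa_ne_bot h3 ha
    rw [Aa_eq_of_inf_ne_bot h3 h1]
    exact h
  · exact absurd (hle.trans h) (not_Aa_le_Bb h3 ha χ)

/-- type `A` subgroups -/
def IsA (X : Subgroup (ProjectiveSpecialLinearGroup ι F)) : Prop := ∃ b : ι → F, b ≠ 0 ∧ X = Aa b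
/-- type `B` subgroups -/
def IsB (X : Subgroup (ProjectiveSpecialLinearGroup ι F)) : Prop := ∃ ψ : ι → F, ψ ≠ 0 ∧ X = Bb ψ

theorem IsA.not_isB (h3 : 3 ≤ Fintype.card ι) {X : Subgroup (ProjectiveSpecialLinearGroup ι F)}
    (h : IsA X) : ¬ IsB X := by
  obtain ⟨b, hb, rfl⟩ := h
  rintro ⟨ψ, -, e⟩
  exact Aa_ne_Bb h3 hb ψ e

theorem smul_isTv (hT : TvInv ι F) (β : MulAut (ProjectiveSpecialLinearGroup ι F))
    {X : Subgroup (ProjectiveSpecialLinearGroup ι F)} (hX : ∀ t ∈ X, IsTv t) :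
    ∀ t ∈ β • X, IsTv t := by
  intro t ht
  rw [Subgroup.mem_smul_pointwise_iff_exists] at ht
  obtain ⟨s, hs, rfl⟩ := ht
  exact hT β s (hX s hs)

theorem isA_or_isB_smul_Aa (h3 : 3 ≤ Fintype.card ι) (hT : TvInv ι F)
    (β : MulAut (ProjectiveSpecialLinearGroup ι F)) {a : ι → F} (ha : a ≠ 0) :
    IsA (β • Aa a) ∨ IsB (β • Aa a) := by
  have key : ∀ X : Subgroup (ProjectiveSpecialLinearGroup ι F), (∀ t ∈ X, IsTv t) →
      β • Aa a ≤ X → β • Aa a = X := by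
    intro X hX hle
    have h1 : Aa a ≤ β⁻¹ • X := by
      rw [← Subgroup.pointwise_smul_le_pointwise_smul_iff (a := β), smul_inv_smul]
      exact hle
    have h2 := Aa_maximal h3 ha (smul_isTv hT β⁻¹ hX) h1
    rw [← h2, smul_inv_smul]
  rcases le_Aa_or_le_Bb h3 (β • Aa a) (smul_isTv hT β (fun t => isTv_of_mem_Aa)) with
    ⟨b, hb, h⟩ | ⟨ψ, hψ, h⟩
  · left; exact ⟨b, hb, key _ (fun t => isTv_of_mem_Aa) h⟩
  · right; exact ⟨ψ, hψ, key _ (fun t => isTv_of_mem_Bb) h⟩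

theorem isA_or_isB_smul_Bb (h3 : 3 ≤ Fintype.card ι) (hT : TvInv ι F)
    (β : MulAut (ProjectiveSpecialLinearGroup ι F)) {φ : ι → F} (hφ : φ ≠ 0) :
    IsA (β • Bb φ) ∨ IsB (β • Bb φ) := by
  have := isA_or_isB_smul_Aa h3 hT (β * γ) hφ
  rwa [mul_smul, gr_smul_Aa] at this

theorem smul_inf_ne_bot {G : Type*} [Group G] (β : MulAut G) {X Y : Subgroup G}
    (h : X ⊓ Y ≠ ⊥) : β • X ⊓ β • Y ≠ ⊥ := by
  obtain ⟨t, ⟨h1, h2⟩, ht⟩ := exists_ne_one_of_ne_bot h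
  apply ne_bot_of_mem (t := β t)
  · exact Subgroup.mem_inf.2 ⟨Subgroup.smul_mem_pointwise_smul t β X h1,
      Subgroup.smul_mem_pointwise_smul t β Y h2⟩
  · intro h0
    exact ht (β.injective (by rw [h0, map_one]))

section Inc

variable (h3 : 3 ≤ Fintype.card ι) (hT : TvInv ι F)
  (β : MulAut (ProjectiveSpecialLinearGroup ι F)) {a φ : ι → F} (ha : a ≠ 0) (hφ : φ ≠ 0)
  (h : φ ⬝ᵥ a = 0)

include h3 hT ha hφ h

theorem isB_of_isA_inc (hA : IsA (β • Aa a)) : IsB (β • Bb φ) := by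
  rcases isA_or_isB_smul_Bb h3 hT β hφ with h1 | h1
  · exfalso
    obtain ⟨b, hb, e1⟩ := hA
    obtain ⟨c, hc, e2⟩ := h1
    have h2 := smul_inf_ne_bot β ((inf_Aa_Bb_ne_bot_iff h3 ha hφ).2 h)
    rw [e1, e2] at h2
    have h4 := Aa_eq_of_inf_ne_bot h3 h2
    rw [← e1, ← e2] at h4
    exact Aa_ne_Bb h3 ha φ (smul_left_cancel β h4)
  · exact h1

theorem isA_of_isB_inc (hB : IsB (β • Aa a)) : IsA (β • Bb φ) := by
  rcases isA_or_isB_smul_Bb h3 hT β hφ with h1 | h1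
  · exact h1
  · exfalso
    obtain ⟨b, hb, e1⟩ := hB
    obtain ⟨c, hc, e2⟩ := h1
    have h2 := smul_inf_ne_bot β ((inf_Aa_Bb_ne_bot_iff h3 ha hφ).2 h)
    rw [e1, e2] at h2
    have h4 := Bb_eq_of_inf_ne_bot h3 h2
    rw [← e1, ← e2] at h4
    exact Aa_ne_Bb h3 ha φ (smul_left_cancel β h4)

theorem isA_of_isB_inc' (hB : IsB (β • Bb φ)) : IsA (β • Aa a) := by
  rcases isA_or_isB_smul_Aa h3 hT β ha with h1 | h1
  · exact h1
  · exact absurd hB (IsA.not_isB h3 (isA_of_isB_inc h3 hT β ha hφ h h1))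

end Inc

/-- type preserving automorphisms -/
def TypeA (β : MulAut (ProjectiveSpecialLinearGroup ι F)) : Prop :=
  ∀ a : ι → F, a ≠ 0 → IsA (β • Aa a)

theorem typeA_of_isA (h3 : 3 ≤ Fintype.card ι) (hT : TvInv ι F)
    (β : MulAut (ProjectiveSpecialLinearGroup ι F)) {a : ι → F} (ha : a ≠ 0)
    (hA : IsA (β • Aa a)) : TypeA β := by
  intro a' ha'
  obtain ⟨φ, hφ, h1, h2⟩ := exists_perp h3 a a'
  exact isA_of_isB_inc' h3 hT β ha' hφ h2 (isB_of_isA_inc h3 hT β ha hφ h1 hA)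

theorem TypeA.isB (h3 : 3 ≤ Fintype.card ι) (hT : TvInv ι F)
    {β : MulAut (ProjectiveSpecialLinearGroup ι F)} (hβ : TypeA β) {φ : ι → F} (hφ : φ ≠ 0) :
    IsB (β • Bb φ) := by
  obtain ⟨a, ha, h1, -⟩ := exists_common_zero h3 φ φ
  exact isB_of_isA_inc h3 hT β ha hφ h1 (hβ a ha)

theorem typeA_or (h3 : 3 ≤ Fintype.card ι) (hT : TvInv ι F)
    (β : MulAut (ProjectiveSpecialLinearGroup ι F)) : TypeA β ∨ TypeA (β * γ) := by
  by_cases hβ : TypeA β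
  · exact Or.inl hβ
  right
  unfold TypeA at hβ
  push Not at hβ
  obtain ⟨a₀, ha₀, hn⟩ := hβ
  have hB : IsB (β • Aa a₀) := (isA_or_isB_smul_Aa h3 hT β ha₀).resolve_left hn
  obtain ⟨φ, hφ, h1, -⟩ := exists_perp h3 a₀ a₀
  have hA : IsA (β • Bb φ) := isA_of_isB_inc h3 hT β ha₀ hφ h1 hB
  apply typeA_of_isA h3 hT (β * γ) hφ
  rwa [mul_smul, gr_smul_Aa]

end Cfsg.Agent.Lib.Helper18.AutPSL
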