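import Mathlib
import Cfsg.Agent.Lib.Helper18.AutPSL.Types
import Cfsg.Agent.Lib.Helper6.SLGen

set_option autoImplicit false

/-!
Normalisation of a type preserving automorphism: after multiplying with a conjugation by `GL`
it stabilises all root subgroups.
-/

namespace Cfsg.Agent.Lib.Helper18.AutPSL

open Matrix MatrixGroups Pointwise

variable {ι : Type*} [Fintype ι] [DecidableEq ι] {F : Type*} [Field F]

theorem TypeA.inv (h3 : 3 ≤ Fintype.card ι) (hT : TvInv ι F)
    {β : MulAut (ProjectiveSpecialLinearGroup ι F)} (hβ : TypeA β) : TypeA β⁻¹ := by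
  obtain ⟨i⟩ : Nonempty ι := by
    apply Fintype.card_pos_iff.1; omega
  obtain ⟨b, hb, e⟩ := hβ (ee i) (ee_ne_zero i)
  apply typeA_of_isA h3 hT β⁻¹ hb
  refine ⟨ee i, ee_ne_zero i, ?_⟩
  rw [← e, inv_smul_smul]

theorem typeA_cG (g : GL ι F) : TypeA (cG g : MulAut (ProjectiveSpecialLinearGroup ι F)) := by
  intro a ha
  refine ⟨g.1 *ᵥ a, ?_, cG_smul_Aa g a⟩
  intro h0
  apply ha
  have := congrArg (fun v => g⁻¹.1 *ᵥ v) h0
  simpa [Matrix.mulVec_mulVec] using this

theorem TypeA.mul {β β' : MulAut (ProjectiveSpecialLinearGroup ι F)} (h : TypeA β)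
    (h' : TypeA β') : TypeA (β * β') := by
  intro a ha
  obtain ⟨b, hb, e⟩ := h' a ha
  rw [mul_smul, e]
  exact h b hb

/-- a type preserving automorphism can be normalised to fix the coordinate points -/
theorem exists_gl_fix (h3 : 3 ≤ Fintype.card ι) (hT : TvInv ι F)
    {β : MulAut (ProjectiveSpecialLinearGroup ι F)} (hβ : TypeA β) :
    ∃ g : GL ι F, ∀ i, ((cG g)⁻¹ * β) • Aa (ee i : ι → F) = Aa (ee i) := by
  have h1 : ∀ i : ι, ∃ b : ι → F, b ≠ 0 ∧ β • Aa (ee i : ι → F) = Aa b :=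
    fun i => hβ (ee i) (ee_ne_zero i)
  choose b hb e using h1
  have hdet : (Matrix.of (fun r k => b k r)).det ≠ 0 := by
    apply det_ne_zero_of_cols
    intro ψ hψ
    by_contra hne
    obtain ⟨χ, hχ, e2⟩ := (hβ.inv h3 hT).isB h3 hT hne
    apply hχ
    funext k
    have h4 := smul_inf_ne_bot β⁻¹ ((inf_Aa_Bb_ne_bot_iff h3 (hb k) hne).2 (hψ k))
    rw [e2, ← e k, inv_smul_smul, inf_Aa_Bb_ne_bot_iff h3 (ee_ne_zero k) hχ,
      dotProduct_single_one] at h4
    exact h4
  refine ⟨GeneralLinearGroup.mkOfDetNeZero _ hdet, fun i => ?_⟩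
  rw [mul_smul, e i, inv_smul_eq_iff, cG_smul_Aa]
  congr 1
  exact (of_cols_mulVec_ee b i).symm

/-- an automorphism fixing the coordinate points fixes the coordinate hyperplanes -/
theorem fix_Bb (h3 : 3 ≤ Fintype.card ι) (hT : TvInv ι F)
    {β : MulAut (ProjectiveSpecialLinearGroup ι F)} (hβ : TypeA β)
    (hfix : ∀ i, β • Aa (ee i : ι → F) = Aa (ee i)) (j : ι) :
    β • Bb (ee j : ι → F) = Bb (ee j) := by
  obtain ⟨χ, hχ, e⟩ := hβ.isB h3 hT (ee_ne_zero (F := F) j)
  have h1 : ∀ i, i ≠ j → χ i = 0 := by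
    intro i hij
    have h4 := smul_inf_ne_bot β
      ((inf_Aa_Bb_ne_bot_iff h3 (ee_ne_zero i) (ee_ne_zero j)).2 (ee_dot_ee (F := F) hij))
    rw [e, hfix i, inf_Aa_Bb_ne_bot_iff h3 (ee_ne_zero i) hχ, dotProduct_single_one] at h4
    exact h4
  have h2 : χ = χ j • ee j := by
    funext i
    by_cases hij : i = j
    · subst hij; simp
    · simp [h1 i hij, hij]
  have h3' : χ j ≠ 0 := by
    intro h0
    apply hχ
    rw [h2, h0, zero_smul]
  rw [e, h2, Bb_smul h3']

/-- elements of a root subgroup -/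
theorem exists_xr_of_mem (h3 : 3 ≤ Fintype.card ι) {i j : ι} (hij : i ≠ j)
    {t : ProjectiveSpecialLinearGroup ι F} (hA : t ∈ Aa (ee i : ι → F))
    (hB : t ∈ Bb (ee j : ι → F)) : ∃ s : F, t = pm (xr hij s) := by
  obtain ⟨φ, h, rfl⟩ := hA
  obtain ⟨b, h', e⟩ := hB
  by_cases hφ : φ = 0
  · refine ⟨0, ?_⟩
    rw [xr_def]
    congr 1
    apply tv_congr rfl
    rw [hφ, zero_smul]
  · obtain ⟨c, -, -, hc⟩ := vecMulVec_eq_vecMulVec (ee_ne_zero i) hφ
      (vec_eq_of_tv_eq (tv_eq_of_pm_eq h3 e))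
    refine ⟨c, ?_⟩
    rw [xr_def]
    congr 1
    exact tv_congr rfl hc

/-- automorphisms stabilising all root subgroups -/
def Diag (β : MulAut (ProjectiveSpecialLinearGroup ι F)) : Prop :=
  ∀ (i j : ι) (hij : i ≠ j) (t : F), ∃ s : F, β (pm (xr hij t)) = pm (xr hij s)

theorem xr_mem_Aa {i j : ι} (hij : i ≠ j) (t : F) : pm (xr hij t) ∈ Aa (ee i : ι → F) :=
  tv_mem_Aa _

theorem xr_mem_Bb {i j : ι} (hij : i ≠ j) (t : F) : pm (xr hij t) ∈ Bb (ee j : ι → F) :=
  tv_mem_Bb_of_smul rfl _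

theorem diag_of_fix (h3 : 3 ≤ Fintype.card ι) (hT : TvInv ι F)
    {β : MulAut (ProjectiveSpecialLinearGroup ι F)} (hβ : TypeA β)
    (hfix : ∀ i, β • Aa (ee i : ι → F) = Aa (ee i)) : Diag β := by
  intro i j hij t
  apply exists_xr_of_mem h3 hij
  · rw [← hfix i]
    exact Subgroup.smul_mem_pointwise_smul _ β _ (xr_mem_Aa hij t)
  · rw [← fix_Bb h3 hT hβ hfix j]
    exact Subgroup.smul_mem_pointwise_smul _ β _ (xr_mem_Bb hij t)

theorem exists_gl_diag (h3 : 3 ≤ Fintype.card ι) (hT : TvInv ι F)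
    {β : MulAut (ProjectiveSpecialLinearGroup ι F)} (hβ : TypeA β) :
    ∃ g : GL ι F, Diag ((cG g)⁻¹ * β) := by
  obtain ⟨g, hg⟩ := exists_gl_fix h3 hT hβ
  refine ⟨g, diag_of_fix h3 hT ?_ hg⟩
  rw [← map_inv]
  exact (typeA_cG g⁻¹).mul hβ

/-! ### root elements -/

theorem xr_eq_transvection {i j : ι} (hij : i ≠ j) (c : F) :
    xr hij c = SpecialLinearGroup.transvection hij c := by
  apply Subtype.ext
  rw [xr_def, tv_val, SpecialLinearGroup.transvection_coe]
  congr 1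
  ext r s
  simp only [vecMulVec_apply, Pi.smul_apply, smul_eq_mul, Matrix.single_apply, ee, Pi.single_apply]
  by_cases h1 : r = i <;> by_cases h2 : s = j <;>
    simp [h1, h2, Ne.symm (a := r) (b := i), Ne.symm (a := s) (b := j)]

theorem xr_injective (h3 : 3 ≤ Fintype.card ι) {i j : ι} (hij : i ≠ j) {s t : F}
    (h : pm (xr hij s) = pm (xr hij t)) : s = t := by
  rw [xr_def, xr_def] at h
  have h1 := vec_eq_of_tv_eq (tv_eq_of_pm_eq h3 h)
  have h2 := congrFun (congrFun h1 i) j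
  simpa [vecMulVec_apply, ee] using h2

theorem xr_add {i j : ι} (hij : i ≠ j) (s t : F) : xr hij (s + t) = xr hij s * xr hij t := by
  rw [xr_def, xr_def, xr_def, tv_mul_same_center _ _
    (by rw [← add_smul, smul_dotProduct, ee_dot_ee hij, smul_zero])]
  apply tv_congr rfl
  rw [add_smul]

theorem xr_comm {i j k : ι} (hij : i ≠ j) (hjk : j ≠ k) (hik : i ≠ k) (s t : F) :
    xr hik (s * t) = xr hij s * xr hjk t * (xr hij s)⁻¹ * (xr hjk t)⁻¹ := by
  rw [xr_eq_transvection, xr_eq_transvection, xr_eq_transvection,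
    ← Cfsg.Agent.Lib.Helper6.commutator_transvection hij hjk hik, commutatorElement_def]

theorem xr_induction (h3 : 3 ≤ Fintype.card ι) (P : SpecialLinearGroup ι F → Prop)
    (h1 : ∀ (i j : ι) (h : i ≠ j) (c : F), P (xr h c))
    (hmul : ∀ A B, P A → P B → P (A * B)) (A : SpecialLinearGroup ι F) : P A := by
  have : Nontrivial ι := Fintype.one_lt_card_iff_nontrivial.mp (by omega)
  apply Cfsg.Agent.Lib.Helper6.SL_transvection_induction P _ hmul
  intro i j h c
  rw [← xr_eq_transvection]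
  exact h1 i j h c

/-- two automorphisms agreeing on root elements are equal -/
theorem aut_ext (h3 : 3 ≤ Fintype.card ι) {β β' : MulAut (ProjectiveSpecialLinearGroup ι F)}
    (h : ∀ (i j : ι) (hij : i ≠ j) (c : F), β (pm (xr hij c)) = β' (pm (xr hij c))) : β = β' := by
  ext x
  obtain ⟨x, rfl⟩ := pm_surjective x
  induction x using xr_induction h3 with
  | h1 i j hij c => exact h i j hij c
  | hmul A B hA hB => rw [pm_mul, map_mul, map_mul, hA, hB]

end Cfsg.Agent.Lib.Helper18.AutPSL
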