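import Mathlib
import Cfsg.Agent.Lib.Helper18.AutPSL.Norm

set_option autoImplicit false

/-!
An automorphism stabilising all root subgroups is a diagonal automorphism times a field
automorphism.
-/

namespace Cfsg.Agent.Lib.Helper18.AutPSL

open Matrix MatrixGroups Pointwise

variable {ι : Type*} [Fintype ι] [DecidableEq ι] {F : Type*} [Field F]

theorem exists_third (h3 : 3 ≤ Fintype.card ι) (i j : ι) : ∃ k : ι, k ≠ i ∧ k ≠ j := by
  by_contra hcon
  push Not at hcon
  have h1 : (Finset.univ : Finset ι) ⊆ {i, j} := by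
    intro x _
    by_cases hx : x = i
    · simp [hx]
    · simp [hcon x hx]
  have h2 := Finset.card_le_card h1
  have h3' : ({i, j} : Finset ι).card ≤ 2 := Finset.card_le_two
  rw [Finset.card_univ] at h2
  omega

theorem Diag.exists_fun {β : MulAut (ProjectiveSpecialLinearGroup ι F)} (hβ : Diag β) :
    ∃ A : ι → ι → F → F, ∀ (i j : ι) (hij : i ≠ j) (t : F),
      β (pm (xr hij t)) = pm (xr hij (A i j t)) := by
  choose a ha using hβ
  refine ⟨fun i j t => if h : i ≠ j then a i j h t else 0, ?_⟩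
  intro i j hij t
  show _ = pm (xr hij (if h : i ≠ j then a i j h t else 0))
  rw [dif_pos hij]
  exact ha i j hij t

section Rel

variable (h3 : 3 ≤ Fintype.card ι) {β : MulAut (ProjectiveSpecialLinearGroup ι F)}
  {A : ι → ι → F → F}
  (hA : ∀ (i j : ι) (hij : i ≠ j) (t : F), β (pm (xr hij t)) = pm (xr hij (A i j t)))

include h3 hA

theorem A_add {i j : ι} (hij : i ≠ j) (s t : F) : A i j (s + t) = A i j s + A i j t := by
  apply xr_injective h3 hij
  rw [← hA, xr_add, xr_add, pm_mul, pm_mul, map_mul, hA, hA]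

theorem A_mul {i j k : ι} (hij : i ≠ j) (hjk : j ≠ k) (hik : i ≠ k) (s t : F) :
    A i k (s * t) = A i j s * A j k t := by
  apply xr_injective h3 hik
  rw [← hA, xr_comm hij hjk hik, xr_comm hij hjk hik]
  simp only [pm_mul, pm_inv, map_mul, map_inv, hA]

theorem A_inj {i j : ι} (hij : i ≠ j) {s t : F} (h : A i j s = A i j t) : s = t := by
  apply xr_injective h3 hij
  apply β.injective
  rw [hA, hA, h]

theorem A_zero {i j : ι} (hij : i ≠ j) : A i j 0 = 0 := by
  have := A_add h3 hA hij 0 0
  rw [add_zero] at this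
  exact left_eq_add.1 this

theorem A_one_ne_zero {i j : ι} (hij : i ≠ j) : A i j 1 ≠ 0 := by
  intro h0
  rw [← A_zero h3 hA hij] at h0
  exact one_ne_zero (A_inj h3 hA hij h0)

theorem A_one_mul_A_one {i j : ι} (hij : i ≠ j) : A i j 1 * A j i 1 = 1 := by
  obtain ⟨k, hki, hkj⟩ := exists_third h3 i j
  have h1 := A_mul h3 hA hij hkj.symm hki.symm 1 1
  have h2 := A_mul h3 hA hij.symm hki.symm hkj.symm 1 1
  rw [mul_one] at h1 h2
  rw [h2, ← mul_assoc] at h1
  exact (mul_eq_right₀ (A_one_ne_zero h3 hA hki.symm)).1 h1.symm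

end Rel

/-- the combinatorial lemma: normalised structure functions are all equal -/
theorem S_eq (h3 : 3 ≤ Fintype.card ι) {S : ι → ι → F → F}
    (hmul : ∀ {i j k : ι}, i ≠ j → j ≠ k → i ≠ k → ∀ s t, S i k (s * t) = S i j s * S j k t)
    (hone : ∀ {i j : ι}, i ≠ j → S i j 1 = 1) {i j k l : ι} (hij : i ≠ j) (hkl : k ≠ l) :
    S i j = S k l := by
  have hR : ∀ {i j k : ι}, i ≠ k → j ≠ k → S i k = S j k := by
    intro i j k hik hjk
    by_cases hij : i = j
    · rw [hij]
    · funext t
      have := hmul hij hjk hik 1 t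
      rwa [one_mul, hone hij, one_mul] at this
  have hC : ∀ {i j k : ι}, i ≠ j → i ≠ k → S i j = S i k := by
    intro i j k hij hik
    by_cases hjk : j = k
    · rw [hjk]
    · funext t
      have := hmul hij hjk hik t 1
      rw [mul_one, hone hjk, mul_one] at this
      exact this.symm
  by_cases hli : l = i
  · subst hli
    obtain ⟨m, hm1, hm2⟩ := exists_third h3 l k
    rw [hC hij hm1.symm, hR hm1.symm hm2.symm, hC hm2.symm hkl]
  · rw [hC hij (Ne.symm hli), hR (Ne.symm hli) hkl]

/-- diagonal matrices in `GL` -/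
noncomputable def dg (d : ι → F) (hd : ∀ i, d i ≠ 0) : GL ι F :=
  GeneralLinearGroup.mkOfDetNeZero (Matrix.diagonal d) (by
    rw [det_diagonal]
    exact Finset.prod_ne_zero_iff.2 (fun i _ => hd i))

theorem dg_val (d : ι → F) (hd : ∀ i, d i ≠ 0) : (dg d hd).1 = Matrix.diagonal d := rfl

theorem xr_val {i j : ι} (hij : i ≠ j) (c : F) : (xr hij c).1 = 1 + Matrix.single i j c := by
  rw [xr_eq_transvection, SpecialLinearGroup.transvection_coe]

theorem conjS_dg_xr (d : ι → F) (hd : ∀ i, d i ≠ 0) {i j : ι} (hij : i ≠ j) (c : F) :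
    conjS (dg d hd) (xr hij c) = xr hij (d i * c * (d j)⁻¹) := by
  apply conjS_eq_of_mul
  rw [dg_val, xr_val, xr_val, Matrix.add_mul, Matrix.mul_add, Matrix.one_mul, Matrix.mul_one]
  congr 1
  ext r s
  rw [Matrix.mul_diagonal, Matrix.diagonal_mul, Matrix.single_apply, Matrix.single_apply]
  by_cases h : i = r ∧ j = s
  · obtain ⟨rfl, rfl⟩ := h
    simp only [and_self, if_true]
    field_simp [hd j]
  · rw [if_neg h, if_neg h, zero_mul, mul_zero]

theorem fldS_xr (σ : F ≃+* F) {i j : ι} (hij : i ≠ j) (c : F) :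
    fldS σ (xr hij c) = xr hij (σ c) := by
  apply Subtype.ext
  ext r s
  rw [fldS_apply, xr_val, xr_val, Matrix.add_apply, Matrix.add_apply, map_add,
    Matrix.single_apply, Matrix.single_apply, Matrix.one_apply]
  congr 1
  · split_ifs <;> simp
  · split_ifs <;> simp

/-- automorphisms stabilising all root subgroups are diagonal times field -/
theorem Diag.form [Finite F] (h3 : 3 ≤ Fintype.card ι)
    {β : MulAut (ProjectiveSpecialLinearGroup ι F)} (hβ : Diag β) :
    ∃ (g : GL ι F) (σ : F ≃+* F), β = cG g * autQ (fldS σ) := by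
  obtain ⟨A, hA⟩ := hβ.exists_fun
  obtain ⟨i₀⟩ : Nonempty ι := by
    apply Fintype.card_pos_iff.1; omega
  obtain ⟨j₀, hj₀, -⟩ := exists_third h3 i₀ i₀
  set d : ι → F := fun i => if i = i₀ then 1 else A i i₀ 1 with hd_def
  have hd : ∀ i, d i ≠ 0 := by
    intro i
    by_cases hi : i = i₀
    · simp [hd_def, hi]
    · simp only [hd_def, if_neg hi]
      exact A_one_ne_zero h3 hA hi
  have hrel : ∀ {i j : ι}, i ≠ j → A i j 1 * d j = d i := by
    intro i j hij
    by_cases hj : j = i₀
    · subst hj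
      simp [hd_def, hij]
    · by_cases hi : i = i₀
      · subst hi
        simp only [hd_def, if_neg hj, if_true]
        exact A_one_mul_A_one h3 hA hij
      · simp only [hd_def, if_neg hj, if_neg hi]
        rw [← A_mul h3 hA hij hj hi, mul_one]
  set S : ι → ι → F → F := fun i j t => (d i)⁻¹ * A i j t * d j with hS_def
  have hone : ∀ {i j : ι}, i ≠ j → S i j 1 = 1 := by
    intro i j hij
    simp only [hS_def]
    rw [mul_assoc, hrel hij, inv_mul_cancel₀ (hd i)]
  have hmul : ∀ {i j k : ι}, i ≠ j → j ≠ k → i ≠ k → ∀ s t, S i k (s * t) = S i j s * S j k t := by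
    intro i j k hij hjk hik s t
    simp only [hS_def]
    rw [A_mul h3 hA hij hjk hik]
    have := hd j
    field_simp
  have hSeq : ∀ {i j : ι}, i ≠ j → S i j = S i₀ j₀ := fun hij => S_eq h3 hmul hone hij hj₀.symm
  obtain ⟨k₀, hk1, hk2⟩ := exists_third h3 i₀ j₀
  let σ₀ : F →+* F :=
    { toFun := S i₀ j₀
      map_one' := hone hj₀.symm
      map_mul' := by
        intro s t
        rw [hmul hk1.symm hk2 hj₀.symm, hSeq hk1.symm, hSeq hk2]
      map_zero' := by
        simp only [hS_def]
        rw [A_zero h3 hA hj₀.symm, mul_zero, zero_mul]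
      map_add' := by
        intro s t
        simp only [hS_def]
        rw [A_add h3 hA hj₀.symm]
        ring }
  have hbij : Function.Bijective σ₀ := Finite.injective_iff_bijective.1 σ₀.injective
  let σ : F ≃+* F := RingEquiv.ofBijective σ₀ hbij
  refine ⟨dg d hd, σ, ?_⟩
  apply aut_ext h3
  intro i j hij c
  rw [MulAut.mul_apply, autQ_pm, cG_pm, fldS_xr, conjS_dg_xr, hA]
  congr 2
  have h1 : σ c = S i j c := by
    rw [hSeq hij]
    rfl
  rw [h1]
  simp only [hS_def]
  have := hd i
  have := hd j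
  field_simp

end Cfsg.Agent.Lib.Helper18.AutPSL
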