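import Mathlib
import Cfsg.Prelude.Def_LieTypeDatum
import Cfsg.Agent.Lib.Helper18.AutPSL.Steinberg
import Cfsg.Agent.Lib.Helper18.AutPSL2.Reduce

set_option autoImplicit false

/-!
The automorphism group of `PSL(ι, F)` for a finite field `F`.
-/

namespace Cfsg.Agent.Lib.Helper18.AutPSL

open Matrix MatrixGroups Pointwise

variable {ι : Type*} [Fintype ι] [DecidableEq ι] {F : Type*} [Field F]

local notation "γ" => (gr : MulAut (ProjectiveSpecialLinearGroup ι F))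

theorem tvInv [Fintype F] (p : ℕ) [Fact p.Prime] [CharP F p] (h3 : 3 ≤ Fintype.card ι) :
    TvInv ι F := fun β _ ht => aut_isTv p h3 β ht

theorem TypeA.form [Finite F] (h3 : 3 ≤ Fintype.card ι) (hT : TvInv ι F)
    {β : MulAut (ProjectiveSpecialLinearGroup ι F)} (hβ : TypeA β) :
    ∃ (g : GL ι F) (σ : F ≃+* F), β = cG g * autQ (fldS σ) := by
  obtain ⟨g, hg⟩ := exists_gl_diag h3 hT hβ
  obtain ⟨g', σ, e⟩ := hg.form h3
  refine ⟨g * g', σ, ?_⟩
  rw [map_mul, mul_assoc, ← e, mul_inv_cancel_left]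

/-- **Automorphisms of `PSL_n(F)`, `n ≥ 3`.** -/
theorem aut_form [Fintype F] (p : ℕ) [Fact p.Prime] [CharP F p] (h3 : 3 ≤ Fintype.card ι)
    (β : MulAut (ProjectiveSpecialLinearGroup ι F)) :
    ∃ (g : GL ι F) (σ : F ≃+* F), β = cG g * autQ (fldS σ) ∨ β = cG g * autQ (fldS σ) * γ := by
  have hT := tvInv (ι := ι) (F := F) p h3
  rcases typeA_or h3 hT β with h | h
  · obtain ⟨g, σ, e⟩ := h.form h3 hT
    exact ⟨g, σ, Or.inl e⟩
  · obtain ⟨g, σ, e⟩ := h.form h3 hT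
    refine ⟨g, σ, Or.inr ?_⟩
    rw [← e, mul_assoc, gr_mul_gr, mul_one]

theorem cG_eq_cG2 (g : GL (Fin 2) F) : AutPSL2.cG g = cG g := by
  ext x
  obtain ⟨x, rfl⟩ := pm_surjective x
  rfl

theorem fld_eq_fld2 (σ : F ≃+* F) :
    AutPSL2.autQ (AutPSL2.fldS σ) = (autQ (fldS σ) : MulAut (ProjectiveSpecialLinearGroup (Fin 2) F)) := by
  ext x
  obtain ⟨x, rfl⟩ := pm_surjective x
  rfl

theorem aut_form2 [Fintype F] (p : ℕ) [Fact p.Prime] [CharP F p]
    (β : MulAut (ProjectiveSpecialLinearGroup (Fin 2) F)) :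
    ∃ (g : GL (Fin 2) F) (σ : F ≃+* F), β = cG g * autQ (fldS σ) := by
  obtain ⟨g, σ, e⟩ := AutPSL2.exists_eq_cG_mul_fld p β
  refine ⟨g, σ, ?_⟩
  rw [← cG_eq_cG2, ← fld_eq_fld2]
  exact e

theorem aut_form_fin [Fintype F] (p : ℕ) [Fact p.Prime] [CharP F p] {n : ℕ} (hn : 2 ≤ n)
    (β : MulAut (ProjectiveSpecialLinearGroup (Fin n) F)) :
    ∃ (g : GL (Fin n) F) (σ : F ≃+* F), β = cG g * autQ (fldS σ) ∨
      β = cG g * autQ (fldS σ) * gr := by
  rcases Nat.lt_or_ge 2 n with h | h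
  · exact aut_form p (by rw [Fintype.card_fin]; omega) β
  · obtain rfl : n = 2 := by omega
    obtain ⟨g, σ, e⟩ := aut_form2 p β
    exact ⟨g, σ, Or.inl e⟩

/-! ### the predicates of the prelude -/

section Bridge

variable {n : ℕ}

theorem isInnerDiagonal_cG (g : GL (Fin n) F) : Cfsg.IsInnerDiagonalAutPSL (cG g) := by
  refine ⟨g, fun s s' h => ?_⟩
  show pm (conjS g s) = pm s'
  congr 1
  exact Subtype.ext h.symm

theorem eq_cG_of_isInnerDiagonal {δ : MulAut (ProjectiveSpecialLinearGroup (Fin n) F)}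
    (h : Cfsg.IsInnerDiagonalAutPSL δ) : ∃ g : GL (Fin n) F, δ = cG g := by
  obtain ⟨g, hg⟩ := h
  refine ⟨g, ?_⟩
  ext x
  obtain ⟨x, rfl⟩ := pm_surjective x
  exact hg x (conjS g x) rfl

theorem isStdField_fld (σ : F ≃+* F) :
    Cfsg.IsStdFieldAutPSL σ (autQ (fldS σ) : MulAut (ProjectiveSpecialLinearGroup (Fin n) F)) := by
  intro s s' h
  show pm (fldS σ s) = pm s'
  congr 1
  exact Subtype.ext h.symm

theorem eq_fld_of_isStdField {σ : F ≃+* F} {φ : MulAut (ProjectiveSpecialLinearGroup (Fin n) F)}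
    (h : Cfsg.IsStdFieldAutPSL σ φ) : φ = autQ (fldS σ) := by
  ext x
  obtain ⟨x, rfl⟩ := pm_surjective x
  exact h x (fldS σ x) rfl

theorem isInverseTranspose_gr :
    Cfsg.IsInverseTransposeAutPSL (gr : MulAut (ProjectiveSpecialLinearGroup (Fin n) F)) := by
  intro s s' h
  show pm (invT s) = pm s'
  congr 1
  exact Subtype.ext h.symm

theorem eq_gr_of_isInverseTranspose {φ : MulAut (ProjectiveSpecialLinearGroup (Fin n) F)}
    (h : Cfsg.IsInverseTransposeAutPSL φ) : φ = gr := by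
  ext x
  obtain ⟨x, rfl⟩ := pm_surjective x
  exact h x (invT x) rfl

theorem isSemilinear (g : GL (Fin n) F) (σ : F ≃+* F) :
    Cfsg.IsInducedBySemilinearPSL g σ (cG g * autQ (fldS σ)) := by
  intro s s' h
  show pm (conjS g (fldS σ s)) = pm s'
  congr 1
  exact Subtype.ext h.symm

theorem eq_of_isSemilinear {g : GL (Fin n) F} {σ : F ≃+* F}
    {φ : MulAut (ProjectiveSpecialLinearGroup (Fin n) F)}
    (h : Cfsg.IsInducedBySemilinearPSL g σ φ) : φ = cG g * autQ (fldS σ) := by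
  ext x
  obtain ⟨x, rfl⟩ := pm_surjective x
  exact h x (conjS g (fldS σ x)) rfl

end Bridge

end Cfsg.Agent.Lib.Helper18.AutPSL
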