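import Mathlib
import Cfsg.Agent.Lib.Helper18.AutPSL.Main

set_option autoImplicit false

/-!
Relations between conjugations, field automorphisms and the graph automorphism of `PSL(ι, F)`,
and rigidity.
-/

namespace Cfsg.Agent.Lib.Helper18.AutPSL

open Matrix MatrixGroups Pointwise

variable {ι : Type*} [Fintype ι] [DecidableEq ι] {F : Type*} [Field F]

local notation "γ" => (gr : MulAut (ProjectiveSpecialLinearGroup ι F))

theorem fldS_refl : fldS (RingEquiv.refl F) = (1 : MulAut (SpecialLinearGroup ι F)) := by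
  ext x : 1
  apply Subtype.ext
  ext i j
  rfl

theorem autQ_one : autQ (1 : MulAut (SpecialLinearGroup ι F)) = 1 := map_one autQHom

theorem autQ_mul (a b : MulAut (SpecialLinearGroup ι F)) : autQ (a * b) = autQ a * autQ b :=
  map_mul autQHom a b

theorem fldS_trans (σ τ : F ≃+* F) :
    (fldS (τ.trans σ) : MulAut (SpecialLinearGroup ι F)) = fldS σ * fldS τ := by
  ext x : 1
  apply Subtype.ext
  ext i j
  rfl

theorem fld_symm_mul (σ : F ≃+* F) :
    (autQ (fldS σ.symm) : MulAut (ProjectiveSpecialLinearGroup ι F)) * autQ (fldS σ) = 1 := by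
  rw [← autQ_mul, ← fldS_trans, RingEquiv.self_trans_symm, fldS_refl, autQ_one]

theorem fld_inv (σ : F ≃+* F) :
    (autQ (fldS σ) : MulAut (ProjectiveSpecialLinearGroup ι F))⁻¹ = autQ (fldS σ.symm) :=
  (eq_inv_of_mul_eq_one_left (fld_symm_mul σ)).symm

theorem fld_smul_Aa (σ : F ≃+* F) (a : ι → F) :
    (autQ (fldS σ) : MulAut (ProjectiveSpecialLinearGroup ι F)) • Aa a = Aa (σ ∘ a) := by
  apply le_antisymm (fld_smul_Aa_le σ a)
  have h := fld_smul_Aa_le σ.symm (σ ∘ a)
  have e : σ.symm ∘ σ ∘ a = a := by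
    funext i
    simp
  rw [e, ← fld_inv] at h
  rwa [← Subgroup.pointwise_smul_le_pointwise_smul_iff
    (a := (autQ (fldS σ) : MulAut (ProjectiveSpecialLinearGroup ι F))), smul_inv_smul] at h

theorem typeA_fld (σ : F ≃+* F) :
    TypeA (autQ (fldS σ) : MulAut (ProjectiveSpecialLinearGroup ι F)) := by
  intro a ha
  refine ⟨σ ∘ a, ?_, fld_smul_Aa σ a⟩
  intro h0
  apply ha
  funext i
  have := congrFun h0 i
  simpa using this

theorem not_typeA_gr (h3 : 3 ≤ Fintype.card ι) : ¬ TypeA γ := by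
  intro h
  obtain ⟨i⟩ : Nonempty ι := by
    apply Fintype.card_pos_iff.1; omega
  have h1 := h (ee i) (ee_ne_zero i)
  exact h1.not_isB h3 ⟨ee i, ee_ne_zero i, gr_smul_Aa _⟩

theorem conjS_xr_eq_of_pm (h3 : 3 ≤ Fintype.card ι) (g : GL ι F) {i j : ι} (hij : i ≠ j)
    {k l : ι} (hkl : k ≠ l) (t s : F)
    (h : pm (conjS g (xr hij t)) = pm (xr hkl s)) : conjS g (xr hij t) = xr hkl s := by
  have h0 : (t • ee j : ι → F) ⬝ᵥ ee i = 0 := by rw [smul_dotProduct, ee_dot_ee hij, smul_zero]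
  have e : conjS g (xr hij t) = tv _ _ (conj_dot g h0) := conjS_tv g _ _
  rw [e] at h ⊢
  exact tv_eq_of_pm_eq h3 h

/-- rigidity -/
theorem rigid (h3 : 3 ≤ Fintype.card ι) (g : GL ι F) (σ : F ≃+* F)
    (h : cG g = autQ (fldS σ)) : (∀ t, σ t = t) ∧ g ∈ Subgroup.center (GL ι F) := by
  have hx : ∀ (i j : ι) (hij : i ≠ j) (t : F),
      Matrix.single i j (σ t) * g.1 = g.1 * Matrix.single i j t := by
    intro i j hij t
    have h1 := congrArg (fun β => β (pm (xr hij t))) h
    simp only [cG_pm, autQ_pm, fldS_xr] at h1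
    have h2 := conjS_xr_eq_of_pm h3 g hij hij _ _ h1
    have h4 := conjS_mul g (xr hij t)
    rw [h2, xr_val, xr_val, Matrix.add_mul, Matrix.mul_add, Matrix.one_mul, Matrix.mul_one] at h4
    exact add_left_cancel h4
  have hoff : ∀ j s : ι, s ≠ j → g.1 j s = 0 := by
    intro j s hsj
    obtain ⟨i, hi, -⟩ := exists_third h3 j j
    have := congrFun (congrFun (hx i j hi 1) i) s
    rw [map_one, Matrix.single_mul_apply_same, Matrix.mul_single_apply_of_ne _ _ _ _ _ hsj,
      one_mul] at this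
    exact this
  have hdiag : ∀ (i j : ι), i ≠ j → ∀ t, σ t * g.1 j j = g.1 i i * t := by
    intro i j hij t
    have := congrFun (congrFun (hx i j hij t) i) j
    rwa [Matrix.single_mul_apply_same, Matrix.mul_single_apply_same] at this
  obtain ⟨i₀⟩ : Nonempty ι := by
    apply Fintype.card_pos_iff.1; omega
  have hsc : ∀ j, g.1 j j = g.1 i₀ i₀ := by
    intro j
    by_cases hj : i₀ = j
    · rw [hj]
    · have := hdiag i₀ j hj 1
      rwa [map_one, one_mul, mul_one] at this
  have hg : g.1 = Matrix.scalar ι (g.1 i₀ i₀) := by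
    ext r s
    by_cases hrs : r = s
    · subst hrs
      simp [hsc r]
    · rw [hoff r s (Ne.symm hrs)]
      simp [hrs]
  have hne : g.1 i₀ i₀ ≠ 0 := by
    intro h0
    have hdet : g.1.det ≠ 0 := by
      have := g.det.ne_zero
      simpa using this
    apply hdet
    have : Nonempty ι := ⟨i₀⟩
    rw [hg, h0, map_zero, Matrix.det_zero]
  refine ⟨fun t => ?_, ?_⟩
  · obtain ⟨j, hj, -⟩ := exists_third h3 i₀ i₀
    have := hdiag i₀ j hj.symm t
    rw [hsc j, mul_comm] at this
    exact mul_left_cancel₀ hne this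
  · rw [GeneralLinearGroup.mem_center_iff_val_mem_range_scalar]
    exact ⟨_, hg.symm⟩

theorem ker_cG (h3 : 3 ≤ Fintype.card ι) :
    (cG : GL ι F →* _).ker = Subgroup.center (GL ι F) := by
  ext g
  rw [MonoidHom.mem_ker]
  constructor
  · intro h
    exact (rigid h3 g (RingEquiv.refl F) (by rw [h, fldS_refl, autQ_one])).2
  · intro h
    ext x
    obtain ⟨x, rfl⟩ := pm_surjective x
    rw [cG_pm]
    show pm _ = pm x
    congr 1
    apply conjS_eq_of_mul
    have := Subgroup.mem_center_iff.1 h (SpecialLinearGroup.toGL x)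
    exact congrArg Units.val this

theorem conj_injective (h3 : 3 ≤ Fintype.card ι) :
    Function.Injective (MulAut.conj : ProjectiveSpecialLinearGroup ι F →* _) := by
  rw [injective_iff_map_eq_one]
  intro x hx
  obtain ⟨x, rfl⟩ := pm_surjective x
  rw [← cG_toGL] at hx
  have h1 : SpecialLinearGroup.toGL x ∈ (cG : GL ι F →* _).ker := hx
  rw [ker_cG h3, SpecialLinearGroup.toGL_mem_center_iff] at h1
  exact (QuotientGroup.eq_one_iff x).2 h1

/-- field automorphisms of `PSL(ι, F)` -/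
noncomputable def Fld (ι : Type*) [Fintype ι] [DecidableEq ι] (K : Type*) [CommSemiring K]
    [Algebra K F] : (F ≃ₐ[K] F) →* MulAut (ProjectiveSpecialLinearGroup ι F) where
  toFun σ := autQ (fldS σ.toRingEquiv)
  map_one' := by
    ext x
    obtain ⟨x, rfl⟩ := pm_surjective x
    rw [autQ_pm]
    show pm _ = pm x
    congr 1
  map_mul' a b := by
    ext x
    obtain ⟨x, rfl⟩ := pm_surjective x
    rw [autQ_pm]
    show pm _ = pm _
    congr 1

theorem Fld_apply (K : Type*) [CommSemiring K] [Algebra K F] (σ : F ≃ₐ[K] F) :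
    Fld ι K σ = autQ (fldS σ.toRingEquiv) := rfl

theorem fld_mul_cG (σ : F ≃+* F) (h : GL ι F) :
    autQ (fldS σ) * cG h = cG (GeneralLinearGroup.map (σ : F →+* F) h) * autQ (fldS σ) := by
  ext x
  obtain ⟨x, rfl⟩ := pm_surjective x
  rw [MulAut.mul_apply, MulAut.mul_apply, cG_pm, autQ_pm, autQ_pm, cG_pm]
  congr 1
  symm
  apply conjS_eq_of_mul
  have h1 := congrArg (fun M => (σ : F →+* F).mapMatrix M) (conjS_mul h x)
  simp only [map_mul] at h1
  exact h1

/-- inverse transpose on `GL` -/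
def gT (h : GL ι F) : GL ι F where
  val := h⁻¹.1ᵀ
  inv := h.1ᵀ
  val_inv := by rw [← Matrix.transpose_mul, Units.mul_inv, Matrix.transpose_one]
  inv_val := by rw [← Matrix.transpose_mul, Units.inv_mul, Matrix.transpose_one]

theorem gT_val (h : GL ι F) : (gT h).1 = h⁻¹.1ᵀ := rfl
theorem gT_inv_val (h : GL ι F) : (gT h)⁻¹.1 = h.1ᵀ := rfl

theorem invT_transpose_mul (x : SpecialLinearGroup ι F) : (invT x).1ᵀ * x.1 = 1 := by
  have h1 : (invT x).1ᵀ = x⁻¹.1 := by
    rw [invT_apply]
    show ((x⁻¹).1ᵀ)ᵀ = _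
    rw [Matrix.transpose_transpose]
  rw [h1]
  have : (x⁻¹ * x).1 = x⁻¹.1 * x.1 := rfl
  rw [← this, inv_mul_cancel]
  rfl

theorem invT_conjS (h : GL ι F) (x : SpecialLinearGroup ι F) :
    invT (conjS h x) = conjS (gT h) (invT x) := by
  apply invT_eq_of_mul
  rw [conjS_val, conjS_val, gT_val, gT_inv_val, Matrix.transpose_mul, Matrix.transpose_mul,
    Matrix.transpose_transpose, Matrix.transpose_transpose]
  calc h.1 * ((invT x).1ᵀ * h⁻¹.1) * (h.1 * x.1 * h⁻¹.1)
      = h.1 * ((invT x).1ᵀ * (h⁻¹.1 * h.1) * x.1) * h⁻¹.1 := by simp only [Matrix.mul_assoc]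
    _ = 1 := by
      rw [Units.inv_mul, Matrix.mul_one, invT_transpose_mul, Matrix.mul_one, Units.mul_inv]

theorem gr_mul_cG (h : GL ι F) : γ * cG h = cG (gT h) * γ := by
  ext x
  obtain ⟨x, rfl⟩ := pm_surjective x
  rw [MulAut.mul_apply, MulAut.mul_apply, cG_pm, gr_pm, gr_pm, cG_pm, invT_conjS]

theorem invT_fldS (σ : F ≃+* F) (x : SpecialLinearGroup ι F) :
    invT (fldS σ x) = fldS σ (invT x) := by
  apply invT_eq_of_mul
  have h1 := congrArg (fun M => (σ : F →+* F).mapMatrix M) (invT_transpose_mul x)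
  simp only [map_mul, map_one] at h1
  rw [← h1]
  congr 1

theorem gr_mul_fld (σ : F ≃+* F) : γ * autQ (fldS σ) = autQ (fldS σ) * γ := by
  ext x
  obtain ⟨x, rfl⟩ := pm_surjective x
  rw [MulAut.mul_apply, MulAut.mul_apply, autQ_pm, gr_pm, gr_pm, autQ_pm, invT_fldS]

theorem card_range_cG [Fintype F] (h3 : 3 ≤ Fintype.card ι) :
    Nat.card (cG : GL ι F →* _).range * (Fintype.card F - 1) = Nat.card (GL ι F) := by
  obtain ⟨i₀⟩ : Nonempty ι := by
    apply Fintype.card_pos_iff.1; omega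
  rw [← Subgroup.index_ker, ← Subgroup.card_mul_index (cG : GL ι F →* _).ker, ker_cG h3,
    GeneralLinearGroup.center_eq_range_scalar, mul_comm]
  congr 1
  have hinj : Function.Injective (GeneralLinearGroup.scalar ι : Fˣ →* GL ι F) := by
    intro a b hab
    have := congrArg (fun g : GL ι F => g.1 i₀ i₀) hab
    apply Units.ext
    simpa using this
  classical
  rw [← Nat.card_congr (MonoidHom.ofInjective hinj).toEquiv, Nat.card_eq_fintype_card,
    Fintype.card_units]

end Cfsg.Agent.Lib.Helper18.AutPSL
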